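import Groth.Agent.EtaleSite.OpenImm
import Groth.Agent.EtaleSite.Points
import Groth.Prelude.Def_EtDual
import Mathlib.CategoryTheory.Sites.Point.Skyscraper
import Mathlib.CategoryTheory.Preadditive.Injective.Preserves
import Mathlib.Algebra.Category.Grp.EpiMono

/-!
# Open immersions: extension by zero and sections with support
-/

universe u

open CategoryTheory CategoryTheory.Limits AlgebraicGeometry Opposite

namespace Groth.Agent.EtSupp

variable {U X : Scheme.{u}} (j : U ⟶ X)

/-- `j_! ⊣ j⁻¹`. -/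
noncomputable def extPullAdj [Etale j] [EtShriek.JCont j] : EtShriek.extZero j ⊣ EtCoh.pull j :=
  (EtShriek.extZeroAdj j).ofNatIsoRight (EtaleSite.pullIsoRestrAlong j).symm

instance preservesFiniteColimits_pull {X Y : Scheme.{u}} (f : X ⟶ Y) [EtCoh.BCCont f] :
    PreservesFiniteColimits (EtCoh.pull f) :=
  have : PreservesColimitsOfSize.{0, 0} (EtCoh.pull f) := (EtCoh.pullPushAdj f).leftAdjoint_preservesColimits
  inferInstance

instance additive_pull {X Y : Scheme.{u}} (f : X ⟶ Y) [EtCoh.BCCont f] : (EtCoh.pull f).Additive :=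
  (EtCoh.pullPushAdj f).left_adjoint_additive

instance preservesFiniteLimits_push {X Y : Scheme.{u}} (f : X ⟶ Y) [EtCoh.BCCont f] :
    PreservesFiniteLimits (EtCoh.push f) :=
  have : PreservesLimitsOfSize.{0, 0} (EtCoh.push f) := (EtCoh.pullPushAdj f).rightAdjoint_preservesLimits
  inferInstance

/-- `f_*` preserves injectives. -/
theorem injective_push {X Y : Scheme.{u}} (f : X ⟶ Y) [EtCoh.BCCont f] (I : EtCoh.Ab X) [hI : Injective I] :
    Injective ((EtCoh.push f).obj I) :=
  (EtCoh.pullPushAdj f).map_injective I hI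

instance preservesInjectiveObjects_push {X Y : Scheme.{u}} (f : X ⟶ Y) [EtCoh.BCCont f] :
    (EtCoh.push f).PreservesInjectiveObjects :=
  ⟨fun {I} _ => injective_push f I⟩

theorem isEmpty_fiber {W : U.Etale} {Ω : Type u} [Field Ω] [IsSepClosed Ω]
    (ξ : Spec (CommRingCat.of Ω) ⟶ X) (hξ : ξ.base default ∉ Set.range j.base) [Etale j] :
    IsEmpty ((Scheme.pointSmallEtale ξ).fiber.obj ((EtShriek.compEtale j).obj W)) := by
  refine ⟨fun t => hξ ?_⟩
  let l : Spec (CommRingCat.of Ω) ⟶ W.left := (show Over.mk ξ ⟶ _ from t).left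
  refine ⟨W.hom.base (l.base default), ?_⟩
  have h : l ≫ W.hom ≫ j = ξ := Over.w (show Over.mk ξ ⟶ _ from t)
  conv_rhs => rw [← h]
  rfl

/-- `j⁻¹` of a skyscraper at a point outside `U` is zero. -/
theorem isZero_pull_skyscraper [Etale j] [EtShriek.JCont j] {Ω : Type u} [Field Ω] [IsSepClosed Ω]
    (ξ : Spec (CommRingCat.of Ω) ⟶ X) (hξ : ξ.base default ∉ Set.range j.base)
    (M : AddCommGrpCat.{u + 1}) :
    IsZero ((EtCoh.pull j).obj ((Scheme.pointSmallEtale ξ).skyscraperSheafFunctor.obj M)) := by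
  refine IsZero.of_iso ?_ ((EtaleSite.pullIsoRestrAlong j).app _)
  have : IsZero ((sheafToPresheaf U.smallEtaleTopology AddCommGrpCat.{u + 1}).obj
      ((EtShriek.restrAlong j).obj ((Scheme.pointSmallEtale ξ).skyscraperSheafFunctor.obj M))) := by
    refine Functor.isZero _ fun W => ?_
    have := isEmpty_fiber j (W := W.unop) ξ hξ
    show IsZero (∏ᶜ fun _ : (Scheme.pointSmallEtale ξ).fiber.obj ((EtShriek.compEtale j).obj W.unop) => M)
    rw [IsZero.iff_id_eq_zero]
    exact Pi.hom_ext _ _ fun x => isEmptyElim x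
  rw [IsZero.iff_id_eq_zero] at this ⊢
  exact (sheafToPresheaf U.smallEtaleTopology AddCommGrpCat.{u + 1}).map_injective
    (((sheafToPresheaf U.smallEtaleTopology AddCommGrpCat.{u + 1}).map_id _).trans
      (this.trans (Functor.map_zero _ _ _).symm))

/-- The stalk of `j_! F` outside `U` vanishes. -/
theorem isZero_stalk_extZero [Etale j] [EtShriek.JCont j] (F : EtCoh.Ab U) {Ω : Type u} [Field Ω]
    [IsSepClosed Ω] (ξ : Spec (CommRingCat.of Ω) ⟶ X) (hξ : ξ.base default ∉ Set.range j.base) :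
    IsZero ((EtCoh.stalk ξ).obj ((EtShriek.extZero j).obj F)) := by
  rw [IsZero.iff_id_eq_zero]
  apply ((Scheme.pointSmallEtale ξ).skyscraperSheafAdjunction.homEquiv _ _).injective
  apply ((extPullAdj j).homEquiv _ _).injective
  exact (isZero_pull_skyscraper j ξ hξ _).eq_of_tgt _ _

/-- A geometric point lands in an open subscheme or outside. -/
theorem exists_lift_or_notMem [IsOpenImmersion j] {Ω : Type u} [Field Ω]
    (ξ : Spec (CommRingCat.of Ω) ⟶ X) :
    (∃ ζ : Spec (CommRingCat.of Ω) ⟶ U, ζ ≫ j = ξ) ∨ ξ.base default ∉ Set.range j.base := by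
  by_cases h : ξ.base default ∈ Set.range j.base
  · refine Or.inl ⟨IsOpenImmersion.lift j ξ ?_, IsOpenImmersion.lift_fac _ _ _⟩
    rintro _ ⟨a, rfl⟩
    rwa [Subsingleton.elim a default]
  · exact Or.inr h

/-- Stalks of `j_!` at points of `U`. -/
noncomputable def stalkExtZeroIso [IsOpenImmersion j] [EtShriek.JCont j] {Ω : Type u} [Field Ω]
    [IsSepClosed Ω] (ζ : Spec (CommRingCat.of Ω) ⟶ U) :
    EtShriek.extZero j ⋙ EtCoh.stalk (ζ ≫ j) ≅ EtCoh.stalk ζ :=
  Functor.isoWhiskerLeft (EtShriek.extZero j) (EtaleSite.stalkPullIso j ζ).symm ≪≫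
    (Functor.associator _ _ _).symm ≪≫
    Functor.isoWhiskerRight
      (Functor.isoWhiskerLeft (EtShriek.extZero j) (EtaleSite.pullIsoRestrAlong j) ≪≫
        (haveI : ∀ F, IsIso ((EtShriek.extZeroAdj j).unit.app F) := EtaleSite.isIso_unit_extZero j
         haveI : IsIso (EtShriek.extZeroAdj j).unit := NatIso.isIso_of_isIso_app _
         (asIso (EtShriek.extZeroAdj j).unit).symm)) _ ≪≫
    Functor.leftUnitor _

/-- `j_!` is exact on monomorphisms. -/
theorem mono_extZero_map [IsOpenImmersion j] [EtShriek.JCont j] {F G : EtCoh.Ab U} (a : F ⟶ G) [Mono a] :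
    Mono ((EtShriek.extZero j).map a) := by
  refine EtaleSite.mono_of_stalk _ fun Ω _ _ ξ => ?_
  refine (AddCommGrpCat.mono_iff_injective _).mp ?_
  rcases exists_lift_or_notMem j ξ with ⟨ζ, rfl⟩ | h
  · have : Mono ((EtCoh.stalk ζ).map a) := inferInstance
    rw [show (EtCoh.stalk (ζ ≫ j)).map ((EtShriek.extZero j).map a) =
        (stalkExtZeroIso j ζ).hom.app F ≫ (EtCoh.stalk ζ).map a ≫ (stalkExtZeroIso j ζ).inv.app G from
      (NatIso.naturality_2 (stalkExtZeroIso j ζ) a).symm]
    exact mono_comp _ _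
  · exact ⟨fun _ _ _ => (isZero_stalk_extZero j F ξ h).eq_of_tgt _ _⟩

instance preservesMonomorphisms_extZero [IsOpenImmersion j] [EtShriek.JCont j] :
    (EtShriek.extZero j).PreservesMonomorphisms :=
  ⟨fun a _ => mono_extZero_map j a⟩

/-- The counit `j_! j⁻¹ G ⟶ G` is mono. -/
theorem mono_counit [IsOpenImmersion j] [EtShriek.JCont j] (G : EtCoh.Ab X) :
    Mono ((extPullAdj j).counit.app G) := by
  refine EtaleSite.mono_of_stalk _ fun Ω _ _ ξ => ?_
  refine (AddCommGrpCat.mono_iff_injective _).mp ?_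
  rcases exists_lift_or_notMem j ξ with ⟨ζ, rfl⟩ | h
  · have h1 : IsIso ((EtCoh.pull j).map ((extPullAdj j).counit.app G)) := by
      have : IsIso ((extPullAdj j).unit.app ((EtCoh.pull j).obj G)) := by
        have := EtaleSite.isIso_unit_extZero j ((EtCoh.pull j).obj G)
        simp only [extPullAdj, Adjunction.ofNatIsoRight_unit, NatTrans.comp_app,
          Functor.whiskerLeft_app]
        infer_instance
      rw [← IsIso.inv_eq_of_hom_inv_id ((extPullAdj j).right_triangle_components G)]
      infer_instance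
    have h2 : IsIso ((EtCoh.stalk (ζ ≫ j)).map ((extPullAdj j).counit.app G)) :=
      (NatIso.isIso_map_iff (EtaleSite.stalkPullIso j ζ) _).mp
        (inferInstanceAs (IsIso ((EtCoh.stalk ζ).map ((EtCoh.pull j).map _))))
    infer_instance
  · exact ⟨fun _ _ _ => (isZero_stalk_extZero j _ ξ h).eq_of_tgt _ _⟩

/-- `j⁻¹` preserves injectives for an open immersion `j`. -/
theorem injective_pull [IsOpenImmersion j] (I : EtCoh.Ab X) [hI : Injective I] :
    Injective ((EtCoh.pull j).obj I) :=
  (extPullAdj j).map_injective I hI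

instance preservesInjectiveObjects_pull [IsOpenImmersion j] :
    (EtCoh.pull j).PreservesInjectiveObjects :=
  ⟨fun {I} _ => injective_pull j I⟩

/-- On an injective sheaf, `I ⟶ j_* j⁻¹ I` has a section. -/
theorem exists_section_unit [IsOpenImmersion j] [EtCoh.BCCont j] (I : EtCoh.Ab X) [Injective I] :
    ∃ s : (EtCoh.push j).obj ((EtCoh.pull j).obj I) ⟶ I, s ≫ EtDual.unitApp j I = 𝟙 _ := by
  set G := (EtCoh.push j).obj ((EtCoh.pull j).obj I)
  have := mono_counit j G
  let c : (EtCoh.pull j).obj G ⟶ (EtCoh.pull j).obj I := (EtCoh.pullPushAdj j).counit.app _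
  let a := ((extPullAdj j).homEquiv _ _).symm c
  let s : G ⟶ I := Injective.factorThru a ((extPullAdj j).counit.app G)
  have hs : (EtCoh.pull j).map s = c := by
    apply ((extPullAdj j).homEquiv _ _).symm.injective
    rw [Adjunction.homEquiv_counit, Adjunction.counit_naturality]
    exact Injective.comp_factorThru _ _
  refine ⟨s, ?_⟩
  apply ((EtCoh.pullPushAdj j).homEquiv _ _).symm.injective
  rw [Adjunction.homEquiv_naturality_left_symm, Adjunction.homEquiv_counit,
    Adjunction.homEquiv_counit, Adjunction.left_triangle_components, Category.comp_id, hs,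
    CategoryTheory.Functor.map_id, Category.id_comp]

theorem epi_unitApp [IsOpenImmersion j] [EtCoh.BCCont j] (I : EtCoh.Ab X) [Injective I] :
    Epi (EtDual.unitApp j I) := by
  obtain ⟨s, hs⟩ := exists_section_unit j I
  exact (⟨⟨s, hs⟩⟩ : IsSplitEpi _).epi

/-- Sections supported off `U` of an injective are injective. -/
theorem injective_secSupp [IsOpenImmersion j] [EtCoh.BCCont j] (I : EtCoh.Ab X) [Injective I] :
    Injective ((EtDual.secSupp j).obj I) := by
  obtain ⟨s, hs⟩ := exists_section_unit j I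
  let r : I ⟶ kernel (EtDual.unitApp j I) :=
    kernel.lift _ (𝟙 _ - EtDual.unitApp j I ≫ s) (by simp [hs])
  have hr : kernel.ι (EtDual.unitApp j I) ≫ r = 𝟙 _ := by
    rw [← cancel_mono (kernel.ι (EtDual.unitApp j I))]
    simp [r, kernel.condition_assoc]
  exact (Retract.mk (kernel.ι (EtDual.unitApp j I)) r hr : Retract (kernel _) I).injective

end Groth.Agent.EtSupp
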