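import Groth.Agent.EtaleSite.OpenImm
import Mathlib.Algebra.Category.Grp.AB
import Mathlib.CategoryTheory.Abelian.GrothendieckAxioms.Basic
import Mathlib.CategoryTheory.Preadditive.Injective.Preserves
import Mathlib.CategoryTheory.Adjunction.Unique

/-!
# Extension by zero along an étale morphism is exact

At the level of presheaves `(j_! P) (V) = ∐ P (V → U)` over the `X`-morphisms `V → U`.
-/

universe u

open CategoryTheory CategoryTheory.Limits AlgebraicGeometry Opposite

noncomputable section

namespace Groth.Agent.EtSupp.ExtZero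

variable {U X : Scheme.{u}} (j : U ⟶ X) [Etale j]

/-- The `X`-morphisms `V → U`. -/
abbrev Lifts (V : X.Etale) : Type u := {φ : V.left ⟶ U // φ ≫ j = V.hom}

/-- `V` as an étale `U`-scheme through a lift. -/
def liftObj {V : X.Etale} (φ : Lifts j V) : U.Etale :=
  MorphismProperty.Over.mk ⊤ φ.1
    (EtCoh.etaleMP.of_postcomp (W' := EtCoh.etaleMP) φ.1 j ‹Etale j› (by
      rw [φ.2]; exact V.prop))

/-- `compEtale (liftObj φ) ≅ V`. -/
def liftIso {V : X.Etale} (φ : Lifts j V) : (EtShriek.compEtale j).obj (liftObj j φ) ≅ V :=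
  MorphismProperty.Over.isoMk (Iso.refl _) ((Category.id_comp V.hom).trans φ.2.symm)

/-- Restriction of lifts. -/
def resLift {V' V : X.Etale} (h : V' ⟶ V) (φ : Lifts j V) : Lifts j V' :=
  ⟨h.left ≫ φ.1, by rw [Category.assoc, φ.2]; exact MorphismProperty.Over.w h⟩

/-- The map between the lifted objects. -/
def resHom {V' V : X.Etale} (h : V' ⟶ V) (φ : Lifts j V) : liftObj j (resLift j h φ) ⟶ liftObj j φ :=
  MorphismProperty.Over.homMk h.left rfl

variable (P : U.Etaleᵒᵖ ⥤ AddCommGrpCat.{u + 1})

/-- The sum over lifts. -/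
abbrev sumObj (V : X.Etale) : AddCommGrpCat.{u + 1} := ∐ fun φ : Lifts j V => P.obj (op (liftObj j φ))

lemma ι_congr {V : X.Etale} {W : U.Etale} {φ₁ φ₂ : Lifts j V} (hφ : φ₁ = φ₂)
    (a₁ : liftObj j φ₁ ⟶ W) (a₂ : liftObj j φ₂ ⟶ W) (ha : a₁.left = a₂.left) :
    P.map a₁.op ≫ Sigma.ι (fun φ : Lifts j V => P.obj (op (liftObj j φ))) φ₁ =
      P.map a₂.op ≫ Sigma.ι (fun φ : Lifts j V => P.obj (op (liftObj j φ))) φ₂ := by
  subst hφ
  rw [MorphismProperty.Over.Hom.ext ha]

/-- The presheaf `V ↦ ∐ P (V → U)`. -/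
def sumPre : X.Etaleᵒᵖ ⥤ AddCommGrpCat.{u + 1} where
  obj V := sumObj j P V.unop
  map {V V'} h := Sigma.desc fun φ => P.map (resHom j h.unop φ).op ≫
    Sigma.ι (fun ψ : Lifts j V'.unop => P.obj (op (liftObj j ψ))) (resLift j h.unop φ)
  map_id V := by
    refine Sigma.hom_ext _ _ fun φ => ?_
    rw [Sigma.ι_desc, Category.comp_id]
    refine (ι_congr j P (Subtype.ext (Category.id_comp φ.1)) _ (𝟙 _) rfl).trans ?_
    simp
  map_comp {V V' V''} h h' := by
    refine Sigma.hom_ext _ _ fun φ => ?_
    rw [Sigma.ι_desc, Sigma.ι_desc_assoc, Category.assoc, Sigma.ι_desc, ← P.map_comp_assoc,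
      ← op_comp]
    exact ι_congr j P (Subtype.ext (Category.assoc _ _ _)) _ _ rfl

variable {P} in
/-- Functoriality in `P`. -/
def sumMap {P' : U.Etaleᵒᵖ ⥤ AddCommGrpCat.{u + 1}} (α : P ⟶ P') : sumPre j P ⟶ sumPre j P' where
  app V := Sigma.desc fun φ => α.app (op (liftObj j φ)) ≫ Sigma.ι (fun φ => P'.obj (op (liftObj j φ))) φ
  naturality V V' h := by
    refine Sigma.hom_ext _ _ fun φ => ?_
    simp [sumPre]

/-- `P ↦ (V ↦ ∐ P (V → U))`. -/
def sumFunctor : (U.Etaleᵒᵖ ⥤ AddCommGrpCat.{u + 1}) ⥤ (X.Etaleᵒᵖ ⥤ AddCommGrpCat.{u + 1}) where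
  obj P := sumPre j P
  map α := sumMap j α
  map_id P := by ext V : 2; exact Sigma.hom_ext _ _ fun φ => by simp [sumMap]; rfl
  map_comp α β := by
    ext V : 2
    refine Sigma.hom_ext _ _ fun φ => ?_
    simp [sumMap]
    erw [Sigma.ι_desc_assoc, Category.assoc, Sigma.ι_desc]

/-- The tautological lift of an étale `U`-scheme. -/
def selfLift (W : U.Etale) : Lifts j ((EtShriek.compEtale j).obj W) := ⟨W.hom, rfl⟩

/-- The tautological lift is the object itself. -/
def selfHom (W : U.Etale) : liftObj j (selfLift j W) ⟶ W :=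
  MorphismProperty.Over.homMk (𝟙 W.left) (Category.id_comp _)

/-- The adjunction bijection. -/
def homEquiv (Q : X.Etaleᵒᵖ ⥤ AddCommGrpCat.{u + 1}) :
    (sumPre j P ⟶ Q) ≃ (P ⟶ (EtShriek.compEtale j).op ⋙ Q) where
  toFun β :=
    { app W := P.map (selfHom j W.unop).op ≫
        Sigma.ι (fun φ : Lifts j ((EtShriek.compEtale j).obj W.unop) => P.obj (op (liftObj j φ)))
          (selfLift j W.unop) ≫ β.app (op ((EtShriek.compEtale j).obj W.unop))
      naturality W W' g := by
        have hn : Sigma.ι (fun φ : Lifts j ((EtShriek.compEtale j).obj W.unop) => P.obj (op (liftObj j φ)))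
              (selfLift j W.unop) ≫
            β.app (op ((EtShriek.compEtale j).obj W.unop)) ≫ Q.map ((EtShriek.compEtale j).map g.unop).op =
          P.map (resHom j ((EtShriek.compEtale j).map g.unop) (selfLift j W.unop)).op ≫
            Sigma.ι (fun φ : Lifts j ((EtShriek.compEtale j).obj W'.unop) => P.obj (op (liftObj j φ)))
              (resLift j ((EtShriek.compEtale j).map g.unop) (selfLift j W.unop)) ≫
            β.app (op ((EtShriek.compEtale j).obj W'.unop)) := by
          have := β.naturality ((EtShriek.compEtale j).map g.unop).op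
          exact (congrArg (Sigma.ι (fun φ => P.obj (op (liftObj j φ))) (selfLift j W.unop) ≫ ·) this).symm.trans
            ((Category.assoc _ _ _).symm.trans
              ((congrArg (· ≫ β.app _) (Sigma.ι_desc _ _)).trans (Category.assoc _ _ _)))
        show P.map g ≫ _ = (_ ≫ _ ≫ _) ≫ Q.map ((EtShriek.compEtale j).map g.unop).op
        simp only [Category.assoc]
        rw [hn, ← P.map_comp_assoc, ← P.map_comp_assoc, ← Category.assoc, ← Category.assoc]
        congr 1
        exact ι_congr j P (Subtype.ext (MorphismProperty.Over.w g.unop).symm)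
          (selfHom j W'.unop ≫ g.unop)
          (resHom j ((EtShriek.compEtale j).map g.unop) (selfLift j W.unop) ≫ selfHom j W.unop)
          ((Category.id_comp g.unop.left).trans (Category.comp_id g.unop.left).symm) }
  invFun α :=
    { app V := Sigma.desc fun φ => α.app (op (liftObj j φ)) ≫ Q.map (liftIso j φ).inv.op
      naturality V V' h := by
        refine Sigma.hom_ext _ _ fun φ => ?_
        dsimp only [sumPre]
        rw [Sigma.ι_desc_assoc, Category.assoc, Sigma.ι_desc, Sigma.ι_desc_assoc, Category.assoc]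
        rw [α.naturality_assoc]
        dsimp only [Functor.comp_map, Functor.op_map]
        rw [← Q.map_comp, ← Q.map_comp, ← op_comp]
        congr 2 }
  left_inv β := by
    ext V : 2
    refine Sigma.hom_ext _ _ fun φ => ?_
    dsimp only
    rw [Sigma.ι_desc]
    have hn := β.naturality (liftIso j φ).inv.op
    refine (Category.assoc _ _ _).trans (((congrArg (_ ≫ ·) (Category.assoc _ _ _)).trans
      (congrArg (fun t => P.map (selfHom j (liftObj j φ)).op ≫ Sigma.ι (fun ψ => P.obj (op (liftObj j ψ)))
        (selfLift j (liftObj j φ)) ≫ t) hn.symm)).trans ?_)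
    dsimp only [sumPre]
    rw [Sigma.ι_desc_assoc, Category.assoc, ← P.map_comp_assoc, ← op_comp, ← Category.assoc]
    congr 1
    refine (ι_congr j P (Subtype.ext (Category.id_comp φ.1)) _ (𝟙 _) ?_).trans ?_
    · exact Category.id_comp _
    · simp
  right_inv α := by
    ext W : 2
    dsimp only
    rw [Sigma.ι_desc, α.naturality_assoc]
    dsimp only [Functor.comp_map, Functor.op_map]
    rw [← Q.map_comp, ← op_comp]
    refine (congrArg (fun t => α.app W ≫ Q.map t.op) (?_ : _ = 𝟙 _)).trans ?_
    · exact MorphismProperty.Over.Hom.ext (Category.comp_id _)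
    · simp

/-- `sumFunctor` is left adjoint to restriction. -/
def sumAdj : sumFunctor j ⊣ (Functor.whiskeringLeft _ _ _).obj (EtShriek.compEtale j).op :=
  Adjunction.mkOfHomEquiv
    { homEquiv := fun P Q => homEquiv j P Q
      homEquiv_naturality_left_symm := fun {P P'} Q f g => by
        ext V : 2
        refine Sigma.hom_ext _ _ fun φ => ?_
        show Sigma.ι (fun φ => P.obj (op (liftObj j φ))) φ ≫ Sigma.desc _ = _ ≫ (sumMap j f).app V ≫ Sigma.desc _
        simp [sumMap]
        erw [Sigma.ι_desc_assoc, Category.assoc, Sigma.ι_desc]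
      homEquiv_naturality_right := fun {P} Q Q' f g => by
        ext W : 2
        show P.map (selfHom j W.unop).op ≫ _ ≫ f.app _ ≫ g.app _ = (P.map (selfHom j W.unop).op ≫ _ ≫ f.app _) ≫ g.app _
        simp }

instance preservesMonomorphisms_sumFunctor : (sumFunctor j).PreservesMonomorphisms :=
  ⟨fun {P₁ P₂} α _ => by
    rw [NatTrans.mono_iff_mono_app]
    intro V
    have : ∀ φ : Lifts j V.unop, Mono (α.app (op (liftObj j φ))) := fun φ => inferInstance
    let τ : Discrete.functor (fun φ : Lifts j V.unop => P₁.obj (op (liftObj j φ))) ⟶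
        Discrete.functor (fun φ : Lifts j V.unop => P₂.obj (op (liftObj j φ))) :=
      Discrete.natTrans
        fun φ : Discrete (Lifts j V.unop) => (α.app (op (liftObj j φ.as)))
    have hτ : Mono τ := @NatTrans.mono_of_mono_app _ _ _ _ _ _ τ fun φ => this φ.as
    have hmono : (sumMap j α).app V = colim.map τ := Sigma.hom_ext _ _ fun φ => by
      simp only [sumMap, Sigma.ι_desc]
      exact (ι_colimMap τ (Discrete.mk φ)).symm
    show Mono ((sumMap j α).app V)
    rw [hmono]
    have : AB4OfSize.{u} AddCommGrpCat.{u + 1} := AB4OfSize_shrink.{u, u + 1} _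
    have : HasExactColimitsOfShape (Discrete (Lifts j V.unop)) AddCommGrpCat.{u + 1} :=
      AB4OfSize.ofShape _
    have : PreservesLimitsOfShape WalkingCospan
        (colim : (Discrete (Lifts j V.unop) ⥤ AddCommGrpCat.{u + 1}) ⥤ AddCommGrpCat.{u + 1}) :=
      inferInstance
    have : (colim : (Discrete (Lifts j V.unop) ⥤ AddCommGrpCat.{u + 1}) ⥤ AddCommGrpCat.{u + 1}).PreservesMonomorphisms :=
      preservesMonomorphisms_of_preservesLimitsOfShape _
    exact @Functor.map_mono _ _ _ _ colim this _ _ τ hτ⟩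

/-- `j_!` preserves monomorphisms for every étale `j`. -/
theorem preservesMonomorphisms_extZero [EtShriek.JCont j] :
    (EtShriek.extZero j).PreservesMonomorphisms := by
  let e : (EtShriek.compEtale j).sheafPullback AddCommGrpCat.{u + 1} U.smallEtaleTopology
      X.smallEtaleTopology ≅
      sheafToPresheaf _ _ ⋙ sumFunctor j ⋙ presheafToSheaf X.smallEtaleTopology AddCommGrpCat.{u + 1} :=
    (EtShriek.extZeroAdj j).leftAdjointUniq
      (((sumAdj j).comp (sheafificationAdjunction X.smallEtaleTopology _)).restrictFullyFaithful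
        (fullyFaithfulSheafToPresheaf U.smallEtaleTopology _) (Functor.FullyFaithful.id _)
        (Iso.refl _) (Iso.refl _))
  have : (sheafToPresheaf U.smallEtaleTopology AddCommGrpCat.{u + 1}).PreservesMonomorphisms :=
    inferInstance
  exact Functor.PreservesMonomorphisms.of_iso e.symm

/-- `j⁻¹` preserves injectives for every étale `j`. -/
theorem injective_pull [EtShriek.JCont j] (I : EtCoh.Ab X) [hI : Injective I] :
    Injective ((EtCoh.pull j).obj I) :=
  have := preservesMonomorphisms_extZero j
  ((EtShriek.extZeroAdj j).ofNatIsoRight (EtaleSite.pullIsoRestrAlong j).symm).map_injective I hI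

end Groth.Agent.EtSupp.ExtZero
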