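import Groth.Prelude.Def_EtGm
import Mathlib.RingTheory.Polynomial.Cyclotomic.Roots
import Mathlib.RingTheory.AdjoinRoot
import Mathlib.CategoryTheory.Sites.LocallyBijective
import Mathlib.AlgebraicGeometry.Sites.SmallAffineZariski

/-!
# `μ_n ≅ ℤ/n` in the presence of a root of the cyclotomic polynomial
-/

universe u

open CategoryTheory CategoryTheory.Limits AlgebraicGeometry Opposite Polynomial

namespace Groth.Agent.EtSupp.MuConst

section Algebra

variable {R : Type*} [CommRing R] {n : ℕ} {ζ : R} (hn : 1 ≤ n)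
  (hζ : Polynomial.aeval ζ (Polynomial.cyclotomic n ℤ) = 0)

include hn in
theorem root_isPrimitiveRoot :
    IsPrimitiveRoot (AdjoinRoot.root (cyclotomic n ℚ)) n := by
  haveI : Fact (Irreducible (cyclotomic n ℚ)) := ⟨cyclotomic.irreducible_rat (by omega)⟩
  haveI : NeZero n := ⟨by omega⟩
  haveI : CharZero (AdjoinRoot (cyclotomic n ℚ)) :=
    charZero_of_injective_algebraMap (RingHom.injective (algebraMap ℚ _))
  rw [← isRoot_cyclotomic_iff, ← map_cyclotomic n (algebraMap ℚ (AdjoinRoot (cyclotomic n ℚ)))]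
  exact AdjoinRoot.isRoot_root _

include hn hζ in
/-- An identity between integral polynomials in a primitive root holds at every root of `Φ_n`. -/
theorem eval_eq_zero_of (P : ℤ[X])
    (hP : Polynomial.aeval (AdjoinRoot.root (cyclotomic n ℚ)) P = 0) :
    Polynomial.aeval ζ P = 0 := by
  haveI : Fact (Irreducible (cyclotomic n ℚ)) := ⟨cyclotomic.irreducible_rat (by omega)⟩
  haveI : CharZero (AdjoinRoot (cyclotomic n ℚ)) :=
    charZero_of_injective_algebraMap (RingHom.injective (algebraMap ℚ _))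
  have hint := (root_isPrimitiveRoot hn).isIntegral (by omega : 0 < n)
  obtain ⟨Q, rfl⟩ : cyclotomic n ℤ ∣ P := by
    rw [cyclotomic_eq_minpoly (root_isPrimitiveRoot hn) (by omega)]
    exact minpoly.isIntegrallyClosed_dvd hint hP
  rw [map_mul, hζ, zero_mul]

include hn hζ in
theorem pow_eq_one : ζ ^ n = 1 := by
  have := eval_eq_zero_of hn hζ (X ^ n - 1) (by simp [(root_isPrimitiveRoot hn).pow_eq_one])
  simpa [sub_eq_zero] using this

include hn hζ in
theorem prod_sub_pow (u : R) : ∏ i ∈ Finset.range n, (u - ζ ^ i) = u ^ n - 1 := by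
  haveI : Fact (Irreducible (cyclotomic n ℚ)) := ⟨cyclotomic.irreducible_rat (by omega)⟩
  let r := AdjoinRoot.root (cyclotomic n ℚ)
  let Q : (ℤ[X])[X] := ∏ i ∈ Finset.range n, (X - C (X ^ i)) - (X ^ n - 1)
  have hr : Q.map (aeval r).toRingHom = 0 := by
    simp only [Q, Polynomial.map_sub, Polynomial.map_prod, map_X, map_C, Polynomial.map_pow,
      Polynomial.map_one]
    rw [sub_eq_zero, X_pow_sub_one_eq_prod (by omega) (root_isPrimitiveRoot hn)]
    refine Finset.prod_nbij (fun i => r ^ i) ?_ ?_ ?_ ?_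
    · intro i _
      rw [mem_nthRootsFinset (by omega), ← pow_mul, mul_comm, pow_mul,
        (root_isPrimitiveRoot hn).pow_eq_one, one_pow]
    · intro a ha b hb h
      exact (root_isPrimitiveRoot hn).pow_inj (Finset.mem_range.mp ha) (Finset.mem_range.mp hb) h
    · intro x hx
      haveI : NeZero n := ⟨by omega⟩
      obtain ⟨i, hi, rfl⟩ := (root_isPrimitiveRoot hn).eq_pow_of_pow_eq_one
        ((mem_nthRootsFinset (by omega) _).mp hx)
      exact ⟨i, Finset.mem_range.mpr hi, rfl⟩
    · intro i _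
      simp [r]
  have : Q.map (aeval ζ).toRingHom = 0 := by
    ext k
    rw [coeff_map, coeff_zero]
    refine eval_eq_zero_of hn hζ _ ?_
    have := congrArg (fun p => p.coeff k) hr
    rw [coeff_map, coeff_zero] at this
    exact this
  have h2 := congrArg (Polynomial.eval u) this
  simpa [Q, Polynomial.map_prod, eval_prod, sub_eq_zero] using h2

end Algebra

variable {S : Scheme.{u}} {n : ℕ} [NeZero n] (hunit : IsUnit (n : Γ(S, ⊤))) (ζ : Γ(S, ⊤))
  (hζ : Polynomial.aeval ζ (Polynomial.cyclotomic n ℤ) = 0)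

/-- The restriction of `ζ` to `V`. -/
noncomputable abbrev res (V : S.Etale) : Γ(V.left, ⊤) := (V.hom.appTop).hom ζ

include hζ in
theorem aeval_res (V : S.Etale) : Polynomial.aeval (res ζ V) (Polynomial.cyclotomic n ℤ) = 0 := by
  have := Polynomial.aeval_algHom_apply ((V.hom.appTop).hom.toIntAlgHom) ζ (cyclotomic n ℤ)
  rw [hζ, map_zero] at this
  exact this

/-- `res ζ V` as a unit. -/
noncomputable def resUnit (V : S.Etale) : (Γ(V.left, ⊤))ˣ :=
  Units.ofPowEqOne (res ζ V) n (pow_eq_one (NeZero.one_le) (aeval_res ζ hζ V)) (NeZero.ne n)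

/-- `k ↦ ζ ^ k` on one étale scheme. -/
noncomputable def expHom (V : S.Etale) :
    ULift.{u + 1} (ZMod n) →+ ULift.{u + 1} (Additive (Γ(V.left, ⊤))ˣ) :=
  AddEquiv.ulift.symm.toAddMonoidHom.comp
    ((ZMod.lift n ⟨zmultiplesHom _ (Additive.ofMul (resUnit ζ hζ V)), by
      rw [zmultiplesHom_apply, natCast_zsmul]
      refine congrArg Additive.ofMul (Units.ext ?_)
      rw [Units.val_pow_eq_pow_val, Units.val_one]
      exact pow_eq_one NeZero.one_le (aeval_res ζ hζ V)⟩).comp AddEquiv.ulift.toAddMonoidHom)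

theorem expHom_apply (V : S.Etale) (i : ℕ) :
    ((expHom ζ hζ V ⟨(i : ZMod n)⟩).down.toMul : Γ(V.left, ⊤)) = res ζ V ^ i := by
  simp only [expHom, AddMonoidHom.coe_comp, Function.comp_apply, AddEquiv.coe_toAddMonoidHom]
  rw [show AddEquiv.ulift (⟨(i : ZMod n)⟩ : ULift.{u + 1} (ZMod n)) = ((i : ℤ) : ZMod n) from
    (Int.cast_natCast i).symm, ZMod.lift_coe]
  show ((Additive.toMul ((i : ℤ) • Additive.ofMul (resUnit ζ hζ V))) : (Γ(V.left, ⊤))ˣ).val = _
  rw [natCast_zsmul, ← ofMul_pow, toMul_ofMul, Units.val_pow_eq_pow_val]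
  rfl

/-- The unit underlying a section of `𝔾_m`. -/
noncomputable def gmVal (V : S.Etaleᵒᵖ) (t : ((EtCoh.Gm S).obj.obj V :)) : Γ(V.unop.left, ⊤) :=
  ((show ULift.{u + 1} (Additive (Γ(V.unop.left, ⊤))ˣ) from t).down.toMul : (Γ(V.unop.left, ⊤))ˣ)

/-- The presheaf map `ℤ/n → 𝔾_m`, `k ↦ ζ ^ k`. -/
noncomputable def expPre :
    (Functor.const _).obj (AddCommGrpCat.of (ULift.{u + 1} (ZMod n))) ⟶ (EtCoh.Gm S).obj where
  app V := AddCommGrpCat.ofHom (expHom ζ hζ V.unop)
  naturality V V' h := by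
    ext ⟨k⟩
    obtain ⟨i, rfl⟩ := ZMod.natCast_rightInverse.surjective k
    refine ULift.ext _ _ (Additive.toMul.injective (Units.ext ?_))
    show ((expHom ζ hζ V'.unop ⟨(i : ZMod n)⟩).down.toMul : Γ(V'.unop.left, ⊤)) =
      (h.unop.left.appTop).hom ((expHom ζ hζ V.unop ⟨(i : ZMod n)⟩).down.toMul : Γ(V.unop.left, ⊤))
    rw [expHom_apply, expHom_apply, map_pow]
    congr 1
    show V'.unop.hom.appTop.hom ζ = h.unop.left.appTop.hom (V.unop.hom.appTop.hom ζ)
    rw [← MorphismProperty.Over.w h.unop, Scheme.Hom.comp_appTop]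
    rfl

include hunit hζ in
theorem residue_primitive (V : S.Etale) (x : V.left) :
    IsPrimitiveRoot ((V.left.Γevaluation x).hom (res ζ V)) n := by
  let f : Γ(S, ⊤) →+* V.left.residueField x := (V.left.Γevaluation x).hom.comp V.hom.appTop.hom
  have hu : IsUnit (n : V.left.residueField x) := by simpa using hunit.map f
  haveI : NeZero (n : V.left.residueField x) := ⟨hu.ne_zero⟩
  rw [← isRoot_cyclotomic_iff, ← map_cyclotomic n (algebraMap ℤ _), IsRoot.def, eval_map,
    ← aeval_def]
  have := Polynomial.aeval_algHom_apply ((V.left.Γevaluation x).hom.toIntAlgHom) (res ζ V)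
    (cyclotomic n ℤ)
  rw [aeval_res ζ hζ V, map_zero] at this
  exact this

include hunit hζ in
theorem isEmpty_of_pow_eq (V : S.Etale) {i j : ℕ} (hi : i < n) (hj : j < n) (hij : i ≠ j)
    (h : res ζ V ^ i = res ζ V ^ j) : IsEmpty V.left :=
  ⟨fun x => hij ((residue_primitive hunit ζ hζ V x).pow_inj hi hj (by
    exact ((map_pow (V.left.Γevaluation x).hom (res ζ V) i).symm.trans ((congrArg _ h).trans (map_pow _ (res ζ V) j)))))⟩

theorem mem_of (V : S.Etale) (R : Sieve V)
    (h : ∀ x : V.left, ∃ (W : S.Etale) (g : W ⟶ V) (y : W.left),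
      R g ∧ EtCoh.etaleMP g.left ∧ g.left y = x) : R ∈ S.smallEtaleTopology V := by
  rw [show S.smallEtaleTopology = (S.smallPretopology (P := EtCoh.etaleMP) (Q := EtCoh.etaleMP)).toGrothendieck from
    Scheme.smallGrothendieckTopology_eq_toGrothendieck_smallPretopology S le_rfl]
  exact (Scheme.mem_toGrothendieck_smallPretopology V R).2 h

theorem empty_sieve_mem (V : S.Etale) [IsEmpty V.left] (R : Sieve V) :
    R ∈ S.smallEtaleTopology V := by
  rw [show S.smallEtaleTopology = (S.smallPretopology (P := EtCoh.etaleMP) (Q := EtCoh.etaleMP)).toGrothendieck from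
    Scheme.smallGrothendieckTopology_eq_toGrothendieck_smallPretopology S le_rfl]
  exact (Scheme.mem_toGrothendieck_smallPretopology V R).2 fun x => isEmptyElim x

include hunit in
theorem isLocallyInjective_expPre : Presheaf.IsLocallyInjective S.smallEtaleTopology (expPre ζ hζ) := by
  refine ⟨fun {V} a b hab => ?_⟩
  obtain ⟨a⟩ := a; obtain ⟨b⟩ := b
  by_cases h : a = b
  · subst h
    simp
  · have : IsEmpty V.unop.left := by
      refine isEmpty_of_pow_eq hunit ζ hζ V.unop a.val_lt b.val_lt (fun e => h (ZMod.val_injective n e)) ?_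
      rw [← expHom_apply ζ hζ, ← expHom_apply ζ hζ, ZMod.natCast_zmod_val, ZMod.natCast_zmod_val]
      exact congrArg (gmVal V) hab
    exact empty_sieve_mem _ _

include hunit in
/-- `n`-torsion sections of `𝔾_m` are locally powers of `ζ`. -/
theorem imageSieve_mem (V : S.Etale) (u : ((EtCoh.Gm S).obj.obj (op V) :)) (hu : n • u = 0) :
    Presheaf.imageSieve (expPre ζ hζ) u ∈ S.smallEtaleTopology V := by
  refine mem_of V _ fun x => ?_
  let a : Γ(V.left, ⊤) := ((show ULift.{u + 1} (Additive (Γ(V.left, ⊤))ˣ) from u).down.toMul : (Γ(V.left, ⊤))ˣ)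
  have han : a ^ n = 1 := by
    have := congrArg (fun t : ULift.{u + 1} (Additive (Γ(V.left, ⊤))ˣ) => (t.down.toMul : Γ(V.left, ⊤)))
      (show n • (show ULift.{u + 1} (Additive (Γ(V.left, ⊤))ˣ) from u) = 0 from hu)
    simpa [a] using this
  have hx := residue_primitive hunit ζ hζ V x
  obtain ⟨i, hi, hix⟩ := hx.eq_pow_of_pow_eq_one (show ((V.left.Γevaluation x).hom a) ^ n = 1 by
    rw [← map_pow, han, map_one])
  let p : Γ(V.left, ⊤) := ∏ k ∈ (Finset.range n).erase i, (a - res ζ V ^ k)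
  have hp : x ∈ V.left.basicOpen p := by
    rw [← Scheme.evaluation_ne_zero_iff_mem_basicOpen _ _ (by trivial)]
    show (V.left.Γevaluation x).hom p ≠ 0
    rw [map_prod, Finset.prod_ne_zero_iff]
    intro k hk
    rw [map_sub, map_pow, ← hix, sub_ne_zero]
    exact fun e => (Finset.mem_erase.mp hk).1
      (hx.pow_inj (Finset.mem_range.mp (Finset.mem_erase.mp hk).2) hi e.symm)
  let W : S.Etale := MorphismProperty.Over.mk ⊤ ((V.left.basicOpen p).ι ≫ V.hom)
    (EtCoh.etaleMP.comp_mem _ _ (inferInstanceAs (Etale (V.left.basicOpen p).ι)) V.prop)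
  let g : W ⟶ V := MorphismProperty.Over.homMk (V.left.basicOpen p).ι rfl
  refine ⟨W, g, ⟨x, hp⟩, ⟨⟨(i : ZMod n)⟩, ?_⟩, inferInstanceAs (Etale (V.left.basicOpen p).ι), rfl⟩
  refine ULift.ext _ _ (Additive.toMul.injective (Units.ext ?_))
  show ((expHom ζ hζ W ⟨(i : ZMod n)⟩).down.toMul : Γ(W.left, ⊤)) = (g.left.appTop).hom a
  rw [expHom_apply]
  have hres : res ζ W = (g.left.appTop).hom (res ζ V) := by
    show ((V.left.basicOpen p).ι ≫ V.hom).appTop.hom ζ = _
    rw [Scheme.Hom.comp_appTop]; rfl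
  rw [hres, ← map_pow, eq_comm, ← sub_eq_zero, ← map_sub]
  have hpu : IsUnit ((g.left.appTop).hom p) := by
    have h1 := RingedSpace.isUnit_res_basicOpen V.left.toRingedSpace p
    let Z := V.left.basicOpen p
    show IsUnit (Z.ι.appTop.hom p)
    erw [Scheme.Opens.ι_appTop]
    have h2 := h1.map (V.left.presheaf.map (eqToHom Z.ι_image_top).op).hom
    erw [← CommRingCat.comp_apply, ← Functor.map_comp] at h2
    exact h2
  refine hpu.mul_left_eq_zero.mp ?_
  rw [← map_mul, mul_comm, Finset.prod_erase_mul _ _ (Finset.mem_range.mpr hi),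
    prod_sub_pow NeZero.one_le (aeval_res ζ hζ V), han, sub_self, map_zero]

theorem expPre_nsmul (V : S.Etaleᵒᵖ) (k : ULift.{u + 1} (ZMod n)) :
    n • (expHom ζ hζ V.unop k) = 0 := by
  rw [← map_nsmul]
  convert map_zero (expHom ζ hζ V.unop) using 2
  exact ULift.ext _ _ (by show n • k.down = 0; rw [nsmul_eq_mul, ZMod.natCast_self, zero_mul])

include hunit hζ in
/-- `ℤ/n ≅ μ_n`. -/
theorem nonempty_iso : Nonempty (EtCoh.mu S n ≅ EtCoh.const S (ZMod n)) := by
  let adj := sheafificationAdjunction S.smallEtaleTopology AddCommGrpCat.{u + 1}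
  let c : EtCoh.const S (ZMod n) ⟶ EtCoh.Gm S :=
    (presheafToSheaf _ _).map (expPre ζ hζ) ≫ adj.counit.app (EtCoh.Gm S)
  have hc : c ≫ EtCoh.powMap S n = 0 := by
    have : n • expPre ζ hζ = 0 := by
      ext V k
      exact expPre_nsmul ζ hζ V k
    have h2 : n • (presheafToSheaf S.smallEtaleTopology AddCommGrpCat.{u + 1}).map (expPre ζ hζ) = 0 := by
      rw [← Functor.map_nsmul, this, Functor.map_zero]
    rw [EtCoh.powMap, Preadditive.comp_nsmul, Category.comp_id]
    show n • ((presheafToSheaf S.smallEtaleTopology AddCommGrpCat.{u + 1}).map (expPre ζ hζ) ≫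
      adj.counit.app (EtCoh.Gm S)) = 0
    rw [← Preadditive.nsmul_comp, h2, Limits.zero_comp]
  let c' : EtCoh.const S (ZMod n) ⟶ EtCoh.mu S n := kernel.lift _ c hc
  let f' := adj.homEquiv _ _ c'
  have hf' : f' ≫ (sheafToPresheaf _ _).map (EtCoh.muι S n) = expPre ζ hζ := by
    have := adj.homEquiv_naturality_right c' (EtCoh.muι S n)
    erw [show c' ≫ EtCoh.muι S n = c from kernel.lift_ι _ _ _] at this
    refine this.symm.trans ?_
    show (adj.homEquiv _ _) ((presheafToSheaf S.smallEtaleTopology AddCommGrpCat.{u + 1}).map (expPre ζ hζ) ≫ adj.counit.app (EtCoh.Gm S)) = _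
    exact (Equiv.eq_symm_apply _).mp (adj.homEquiv_counit _ _ _).symm
  have hmono : ∀ V, Mono (((sheafToPresheaf _ _).map (EtCoh.muι S n)).app V) := by
    have : Mono ((sheafToPresheaf S.smallEtaleTopology AddCommGrpCat.{u + 1}).map (EtCoh.muι S n)) := by
      have : Mono (EtCoh.muι S n) := inferInstanceAs (Mono (kernel.ι _))
      infer_instance
    intro V; infer_instance
  have happ : ∀ (V) (k), ((sheafToPresheaf _ _).map (EtCoh.muι S n)).app V (f'.app V k) =
      (expPre ζ hζ).app V k := fun V k => by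
    rw [← hf']; rfl
  have hinj : Presheaf.IsLocallyInjective S.smallEtaleTopology f' := by
    refine ⟨fun {V} a b hab => ?_⟩
    have := isLocallyInjective_expPre hunit ζ hζ
    refine this.equalizerSieve_mem a b ?_
    rw [← happ, ← happ, hab]
  have hsurj : Presheaf.IsLocallySurjective S.smallEtaleTopology f' := by
    refine ⟨fun {V} s => ?_⟩
    let u := ((sheafToPresheaf _ _).map (EtCoh.muι S n)).app (op V) s
    have hu : n • u = 0 := by
      have h0 : EtCoh.muι S n ≫ (n • 𝟙 (EtCoh.Gm S)) = 0 := kernel.condition _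
      have := congrArg (fun φ => φ.hom.app (op V) s) h0
      exact this
    refine S.smallEtaleTopology.superset_covering ?_ (imageSieve_mem hunit ζ hζ V u hu)
    rintro W g ⟨k, hk⟩
    refine ⟨k, (AddCommGrpCat.mono_iff_injective _).mp (hmono (op W)) ?_⟩
    rw [happ, hk]
    exact (NatTrans.naturality_apply ((sheafToPresheaf _ _).map (EtCoh.muι S n)) g.op s).symm
  have hW := S.smallEtaleTopology.W_of_isLocallyBijective f'
  rw [GrothendieckTopology.W_iff] at hW
  have : IsIso c' := by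
    have e : c' = (adj.homEquiv _ _).symm f' := (Equiv.symm_apply_apply _ _).symm
    rw [e, adj.homEquiv_counit]
    exact IsIso.comp_isIso' hW inferInstance
  exact ⟨(asIso c').symm⟩

end Groth.Agent.EtSupp.MuConst
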