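import Groth.Agent.EtSupp.EtaleBC
import Groth.Agent.EtSupp.MuConst
import Groth.Prelude.Def_EtDual
import Mathlib.RingTheory.Etale.StandardEtale
import Mathlib.Algebra.Module.Injective

/-!
# Tate twists are étale locally constant
-/

universe u

open CategoryTheory CategoryTheory.Limits AlgebraicGeometry Opposite TensorProduct

namespace Groth.Agent.EtSupp.TateLoc

section Restr

variable {X' X : Scheme.{u}} (g : X' ⟶ X) [Etale g] [EtShriek.JCont g]

/-- Sheafification commutes with restriction along an étale morphism. -/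
noncomputable def restrSheafifyIso :
    presheafToSheaf X.smallEtaleTopology AddCommGrpCat.{u + 1} ⋙ EtShriek.restrAlong g ≅
      (Functor.whiskeringLeft _ _ AddCommGrpCat.{u + 1}).obj (EtShriek.compEtale g).op ⋙
        presheafToSheaf X'.smallEtaleTopology AddCommGrpCat.{u + 1} :=
  ((sheafificationAdjunction X.smallEtaleTopology AddCommGrpCat.{u + 1}).comp
      (EtaleSite.restrAlongPushAdj g)).leftAdjointUniq
    ((((EtaleSite.compEtaleBcAdj g).op.whiskerLeft AddCommGrpCat.{u + 1}).comp
      (sheafificationAdjunction X'.smallEtaleTopology AddCommGrpCat.{u + 1})).ofNatIsoRight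
        (Iso.refl _))

theorem nonempty_restr_const_iso (M : Type) [AddCommGroup M] :
    Nonempty ((EtShriek.restrAlong g).obj (EtCoh.const X M) ≅ EtCoh.const X' M) :=
  ⟨(restrSheafifyIso g).app _⟩

/-- `Gm` restricts to `Gm`. -/
noncomputable def restrGmIso : (EtShriek.restrAlong g).obj (EtCoh.Gm X) ≅ EtCoh.Gm X' :=
  (fullyFaithfulSheafToPresheaf _ _).preimageIso (NatIso.ofComponents (fun V => Iso.refl _)
    (fun f => (Category.comp_id _).trans (Category.id_comp _).symm))

theorem nonempty_restr_mu_iso (n : ℕ) :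
    Nonempty ((EtShriek.restrAlong g).obj (EtCoh.mu X n) ≅ EtCoh.mu X' n) := by
  refine ⟨PreservesKernel.iso (EtShriek.restrAlong g) (EtCoh.powMap X n) ≪≫
    kernel.mapIso _ _ (restrGmIso g) (restrGmIso g) ?_⟩
  simp [EtCoh.powMap, Functor.map_nsmul]

/-- Tensor products restrict to tensor products. -/
noncomputable def restrTensorIso (F G : EtCoh.Ab X) :
    (EtShriek.restrAlong g).obj (EtDual.tensorAb F G) ≅
      EtDual.tensorAb ((EtShriek.restrAlong g).obj F) ((EtShriek.restrAlong g).obj G) :=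
  (restrSheafifyIso g).app (EtDual.tensorPre F G) ≪≫
    (presheafToSheaf _ _).mapIso (NatIso.ofComponents (fun V => Iso.refl _)
      (fun f => (Category.comp_id _).trans (Category.id_comp _).symm))

end Restr

variable {X : Scheme.{u}}

/-- `tensorPre` on morphisms. -/
noncomputable def tensorPreMap {F F' G G' : EtCoh.Ab X} (a : F ⟶ F') (b : G ⟶ G') :
    EtDual.tensorPre F G ⟶ EtDual.tensorPre F' G' where
  app V := AddCommGrpCat.ofHom (TensorProduct.map (a.hom.app V).hom.toIntLinearMap
    (b.hom.app V).hom.toIntLinearMap).toAddMonoidHom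
  naturality V W f := by
    refine AddCommGrpCat.hom_ext (DFunLike.ext _ _ fun (x : F.obj.obj V ⊗[ℤ] G.obj.obj V) => ?_)
    induction x with
    | zero => exact (map_zero _).trans (map_zero _).symm
    | add x y hx hy => exact (map_add _ x y).trans ((congrArg₂ (· + ·) hx hy).trans (map_add _ x y).symm)
    | tmul s t =>
      exact congrArg₂ (· ⊗ₜ[ℤ] ·) (NatTrans.naturality_apply a.hom f s)
        (NatTrans.naturality_apply b.hom f t)

/-- Isomorphic factors give isomorphic tensor products. -/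
noncomputable def tensorCongr {F F' G G' : EtCoh.Ab X} (a : F ≅ F') (b : G ≅ G') :
    EtDual.tensorAb F G ≅ EtDual.tensorAb F' G' :=
  (presheafToSheaf _ _).mapIso
    { hom := tensorPreMap a.hom b.hom
      inv := tensorPreMap a.inv b.inv
      hom_inv_id := by
        refine NatTrans.ext (funext fun V => AddCommGrpCat.hom_ext (DFunLike.ext _ _
          fun (x : F.obj.obj V ⊗[ℤ] G.obj.obj V) => ?_))
        induction x with
        | zero => exact (map_zero _).trans (map_zero _).symm
        | add x y hx hy => exact (map_add _ x y).trans ((congrArg₂ (· + ·) hx hy).trans (map_add _ x y).symm)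
        | tmul s t =>
          exact congrArg₂ (· ⊗ₜ[ℤ] ·) (congrArg (fun φ => φ.hom.app V s) a.hom_inv_id)
            (congrArg (fun φ => φ.hom.app V t) b.hom_inv_id)
      inv_hom_id := by
        refine NatTrans.ext (funext fun V => AddCommGrpCat.hom_ext (DFunLike.ext _ _
          fun (x : F'.obj.obj V ⊗[ℤ] G'.obj.obj V) => ?_))
        induction x with
        | zero => exact (map_zero _).trans (map_zero _).symm
        | add x y hx hy => exact (map_add _ x y).trans ((congrArg₂ (· + ·) hx hy).trans (map_add _ x y).symm)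
        | tmul s t =>
          exact congrArg₂ (· ⊗ₜ[ℤ] ·) (congrArg (fun φ => φ.hom.app V s) a.inv_hom_id)
            (congrArg (fun φ => φ.hom.app V t) b.inv_hom_id) }

/-- `ℤ/n` is self-injective. -/
theorem baer_zmod (n : ℕ) [NeZero n] : Module.Baer (ZMod n) (ZMod n) := by
  intro I g
  have hP : IsPrincipalIdealRing (ZMod n) :=
    IsPrincipalIdealRing.of_surjective (Int.castRingHom (ZMod n)) ZMod.intCast_surjective
  obtain ⟨m, rfl⟩ := hP.principal I
  set e := m.val with he
  set d := Nat.gcd e n with hd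
  have hm : (e : ZMod n) = m := ZMod.natCast_zmod_val m
  have hdm : ((d : ℕ) : ZMod n) ∈ Submodule.span (ZMod n) {m} := by
    rw [Submodule.mem_span_singleton]
    refine ⟨((Nat.gcdA e n : ℤ) : ZMod n), ?_⟩
    have := congrArg (fun z : ℤ => (z : ZMod n)) (Nat.gcd_eq_gcd_ab e n)
    simp only [Int.cast_natCast, Int.cast_add, Int.cast_mul, ZMod.natCast_self, zero_mul, add_zero,
      hm] at this
    rw [smul_eq_mul, hd, this, mul_comm]
  obtain ⟨a, ha⟩ := ZMod.natCast_rightInverse.surjective (g ⟨_, hdm⟩)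
  have hda : d ∣ a := by
    obtain ⟨k, hk⟩ : d ∣ n := Nat.gcd_dvd_right e n
    have h0 : ((k * d : ℕ) : ZMod n) = 0 := by rw [mul_comm, ← hk, ZMod.natCast_self]
    have : ((k * a : ℕ) : ZMod n) = 0 := by
      rw [Nat.cast_mul, ha, ← smul_eq_mul, ← map_smul]
      convert g.map_zero using 2
      exact Subtype.ext ((Nat.cast_mul k d).symm.trans h0)
    rw [ZMod.natCast_eq_zero_iff] at this
    have hk0 : 0 < k := Nat.pos_of_ne_zero fun h => NeZero.ne n (by rw [hk, h, mul_zero])
    rw [hk, mul_comm d k] at this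
    exact (Nat.mul_dvd_mul_iff_left hk0).mp this
  obtain ⟨b, rfl⟩ := hda
  refine ⟨LinearMap.toSpanSingleton (ZMod n) (ZMod n) (b : ZMod n), fun x hx => ?_⟩
  obtain ⟨r, rfl⟩ := Submodule.mem_span_singleton.mp hx
  obtain ⟨c, hc⟩ : d ∣ e := Nat.gcd_dvd_left e n
  have hx' : (⟨r • m, hx⟩ : Submodule.span (ZMod n) {m}) = (r * c : ZMod n) • ⟨_, hdm⟩ :=
    Subtype.ext (by
      show r • m = (r * c : ZMod n) • (d : ZMod n)
      rw [← hm, hc, smul_eq_mul, smul_eq_mul, Nat.cast_mul]; ring)
  rw [LinearMap.toSpanSingleton_apply, hx', map_smul, ← ha, ← hm, hc]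
  simp only [smul_eq_mul, Nat.cast_mul]; ring

set_option backward.isDefEq.respectTransparency false in
/-- A functional on an `n`-torsion group taking the value `1` at an element of exact order `n`. -/
theorem exists_functional {A : Type*} [AddCommGroup A] (n : ℕ) [NeZero n] (hA : ∀ a : A, n • a = 0)
    (o : A) (ho : ∀ k : ℕ, k • o = 0 → n ∣ k) :
    ∃ φ : A →+ ZMod n, φ o = 1 := by
  have : Module (ZMod n) A := AddCommGroup.zmodModule hA
  let f : ZMod n →ₗ[ZMod n] A := LinearMap.toSpanSingleton (ZMod n) A o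
  have hf : Function.Injective ⇑f := by
    rw [injective_iff_map_eq_zero]
    intro k hk
    obtain ⟨i, rfl⟩ := ZMod.natCast_rightInverse.surjective k
    rw [LinearMap.toSpanSingleton_apply, Nat.cast_smul_eq_nsmul] at hk
    exact (ZMod.natCast_eq_zero_iff _ _).mpr (ho i hk)
  obtain ⟨φ, hφ⟩ := (baer_zmod n).extension_property f hf LinearMap.id
  refine ⟨φ.toAddMonoidHom, ?_⟩
  have := LinearMap.congr_fun hφ 1
  simpa [f] using this

section TensorConst

variable (n : ℕ)

/-- The sheafification map of the constant presheaf `ℤ/n`. -/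
noncomputable abbrev constUnit :
    (Functor.const X.Etaleᵒᵖ).obj (AddCommGrpCat.of (ULift.{u + 1} (ZMod n))) ⟶
      (EtCoh.const X (ZMod n)).obj :=
  toSheafify X.smallEtaleTopology ((Functor.const _).obj _)

/-- The section `1` of `ℤ/n`. -/
noncomputable def one (V : X.Etaleᵒᵖ) : ↑((EtCoh.const X (ZMod n)).obj.obj V) :=
  (constUnit n).app V ⟨1⟩

theorem map_one {V W : X.Etaleᵒᵖ} (f : V ⟶ W) :
    (EtCoh.const X (ZMod n)).obj.map f (one n V) = one n W :=
  (NatTrans.naturality_apply (constUnit n) f _).symm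

theorem constUnit_natCast (V : X.Etaleᵒᵖ) (k : ℕ) :
    (constUnit n).app V ⟨(k : ZMod n)⟩ = k • one n V := by
  rw [one, ← map_nsmul]
  congr 1
  exact ULift.ext _ _ (by show (k : ZMod n) = k • (1 : ZMod n); simp)

theorem nsmul_const [NeZero n] (V : X.Etaleᵒᵖ) (a : ↑((EtCoh.const X (ZMod n)).obj.obj V)) :
    n • a = 0 := by
  have h : n • 𝟙 ((Functor.const X.Etaleᵒᵖ).obj (AddCommGrpCat.of (ULift.{u + 1} (ZMod n)))) = 0 := by
    ext V k
    exact ULift.ext _ _ (by show n • k.down = 0; rw [nsmul_eq_mul, ZMod.natCast_self, zero_mul])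
  have h2 : n • 𝟙 (EtCoh.const X (ZMod n)) = 0 := by
    have := congrArg (presheafToSheaf X.smallEtaleTopology AddCommGrpCat.{u + 1}).map h
    rw [Functor.map_nsmul, CategoryTheory.Functor.map_id, Functor.map_zero] at this
    exact this
  exact congrArg (fun φ => φ.hom.app V a) h2

theorem constUnit_isLocallyBijective :
    Presheaf.IsLocallyInjective X.smallEtaleTopology (constUnit (X := X) n) ∧
      Presheaf.IsLocallySurjective X.smallEtaleTopology (constUnit (X := X) n) :=
  (X.smallEtaleTopology.W_iff_isLocallyBijective _).1 (X.smallEtaleTopology.W_toSheafify _)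

theorem dvd_of_nsmul_one [NeZero n] (V : X.Etale) [Nonempty V.left] (k : ℕ)
    (h : k • one n (op V) = 0) : n ∣ k := by
  rw [← constUnit_natCast, ← map_zero ((constUnit n).app (op V)).hom] at h
  have := (constUnit_isLocallyBijective (X := X) n).1
  have hS := Presheaf.equalizerSieve_mem X.smallEtaleTopology (constUnit (X := X) n) _ _ h
  obtain ⟨W, f, hf⟩ : ∃ (W : X.Etale) (f : W ⟶ V), Presheaf.equalizerSieve _ _ f := by
    obtain ⟨W, f, -, hf, -⟩ := (Scheme.mem_toGrothendieck_smallPretopology V _).1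
      (by rw [← Scheme.smallGrothendieckTopology_eq_toGrothendieck_smallPretopology X le_rfl]; exact hS)
      (Classical.arbitrary V.left)
    exact ⟨W, f, hf⟩
  exact (ZMod.natCast_eq_zero_iff _ _).mp (congrArg ULift.down hf)

/-- `s ↦ s ⊗ 1`. -/
noncomputable def tmulOne (F : EtCoh.Ab X) :
    F.obj ⟶ EtDual.tensorPre F (EtCoh.const X (ZMod n)) where
  app V := AddCommGrpCat.ofHom (AddMonoidHom.mk' (fun s : F.obj.obj V => (s ⊗ₜ[ℤ] one n V :))
    (fun s t => TensorProduct.add_tmul s t _))
  naturality V W f := by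
    refine AddCommGrpCat.hom_ext (DFunLike.ext _ _ fun s => ?_)
    exact (congrArg (F.obj.map f s ⊗ₜ[ℤ] ·) (map_one n f)).symm

/-- Tensoring with `ℤ/n` does nothing to a sheaf killed by `n`. -/
theorem nonempty_tensor_const_iso [NeZero n] (F : EtCoh.Ab X)
    (hF : ∀ (V : X.Etaleᵒᵖ) (s : F.obj.obj V), n • s = 0) :
    Nonempty (EtDual.tensorAb F (EtCoh.const X (ZMod n)) ≅ F) := by
  let adj := sheafificationAdjunction X.smallEtaleTopology AddCommGrpCat.{u + 1}
  have hinj : Presheaf.IsLocallyInjective X.smallEtaleTopology (tmulOne n F) := by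
    constructor
    intro V a b hab
    rcases isEmpty_or_nonempty V.unop.left with hV | hV
    · exact MuConst.empty_sieve_mem V.unop _
    · obtain ⟨φ, hφ⟩ := exists_functional n (nsmul_const n V) (one n V)
        (fun k hk => dvd_of_nsmul_one n V.unop k hk)
      have : Module (ZMod n) (F.obj.obj V) := AddCommGroup.zmodModule (hF V)
      let B : F.obj.obj V ⊗[ℤ] ↑((EtCoh.const X (ZMod n)).obj.obj V) →ₗ[ℤ] F.obj.obj V :=
        TensorProduct.lift (LinearMap.mk₂ ℤ (fun s c => φ c • s)
          (fun s t c => smul_add _ _ _) (fun z s c => smul_comm _ _ _)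
          (fun s c e => by rw [map_add, add_smul]) (fun z s c => by rw [map_zsmul, smul_assoc]))
      have h1 : ∀ s, B (s ⊗ₜ[ℤ] one n V) = s := fun s => by
        show φ (one n V) • s = s
        rw [hφ, one_smul]
      have : a = b := by rw [← h1 a, ← h1 b]; exact congrArg B hab
      subst this
      rw [Presheaf.equalizerSieve_self_eq_top]
      exact GrothendieckTopology.top_mem _ _
  have hsurj : Presheaf.IsLocallySurjective X.smallEtaleTopology (tmulOne n F) := by
    refine ⟨fun {V} z => ?_⟩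
    change F.obj.obj (op V) ⊗[ℤ] ↑((EtCoh.const X (ZMod n)).obj.obj (op V)) at z
    induction z with
    | zero =>
      refine X.smallEtaleTopology.superset_covering (fun W f _ => ⟨0, ?_⟩) (GrothendieckTopology.top_mem _ _)
      exact (map_zero _).trans (map_zero _).symm
    | add x y hx hy =>
      refine X.smallEtaleTopology.superset_covering ?_ (X.smallEtaleTopology.intersection_covering hx hy)
      rintro W f ⟨⟨a, ha⟩, ⟨b, hb⟩⟩
      exact ⟨a + b, (map_add _ a b).trans ((congrArg₂ (· + ·) ha hb).trans (map_add _ x y).symm)⟩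
    | tmul s c =>
      have hu := (constUnit_isLocallyBijective (X := X) n).2
      refine X.smallEtaleTopology.superset_covering ?_ (hu.imageSieve_mem c)
      rintro W f ⟨⟨k⟩, hk⟩
      obtain ⟨i, rfl⟩ := ZMod.natCast_rightInverse.surjective k
      refine ⟨i • F.obj.map f.op s, ?_⟩
      show (i • F.obj.map f.op s) ⊗ₜ[ℤ] one n (op W) =
        (F.obj.map f.op s) ⊗ₜ[ℤ] ((EtCoh.const X (ZMod n)).obj.map f.op c)
      rw [← hk, constUnit_natCast, ← natCast_zsmul, ← natCast_zsmul, TensorProduct.smul_tmul]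
  have hW := X.smallEtaleTopology.W_of_isLocallyBijective (tmulOne n F)
  rw [GrothendieckTopology.W_iff] at hW
  exact ⟨(asIso ((presheafToSheaf _ _).map (tmulOne n F))).symm ≪≫ asIso (adj.counit.app F)⟩

end TensorConst

/-- With a primitive root of unity, every Tate twist is constant. -/
theorem nonempty_tate_iso_const (n : ℕ) [NeZero n] (hn : IsUnit (n : Γ(X, ⊤))) (ζ : Γ(X, ⊤))
    (hζ : Polynomial.aeval ζ (Polynomial.cyclotomic n ℤ) = 0) :
    ∀ c, Nonempty (EtDual.tate X n c ≅ EtCoh.const X (ZMod n))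
  | 0 => ⟨Iso.refl _⟩
  | c + 1 => by
    obtain ⟨e⟩ := nonempty_tate_iso_const n hn ζ hζ c
    obtain ⟨m⟩ := MuConst.nonempty_iso hn ζ hζ
    obtain ⟨t⟩ := nonempty_tensor_const_iso n (EtCoh.const X (ZMod n)) (nsmul_const n)
    exact ⟨tensorCongr e m ≪≫ t⟩

theorem nonempty_restr_tate_iso {X' : Scheme.{u}} (g : X' ⟶ X) [Etale g] [EtShriek.JCont g] (n : ℕ) :
    ∀ c, Nonempty ((EtShriek.restrAlong g).obj (EtDual.tate X n c) ≅ EtDual.tate X' n c)
  | 0 => nonempty_restr_const_iso g (ZMod n)
  | c + 1 => by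
    obtain ⟨e⟩ := nonempty_restr_tate_iso g n c
    obtain ⟨m⟩ := nonempty_restr_mu_iso g n
    exact ⟨restrTensorIso g _ _ ≪≫ tensorCongr e m⟩

open Polynomial in
/-- Every point has an étale neighbourhood containing a primitive `n`-th root of unity. -/
theorem exists_cyclotomic_nhd (n : ℕ) [NeZero n] (hn : IsUnit (n : Γ(X, ⊤))) (x : X) :
    ∃ (X' : Scheme.{u}) (g : X' ⟶ X) (_ : Etale g) (ζ : Γ(X', ⊤)),
      x ∈ Set.range g.base ∧ IsUnit (n : Γ(X', ⊤)) ∧ aeval ζ (cyclotomic n ℤ) = 0 := by
  obtain ⟨_, ⟨W, hW, rfl⟩, hxW, -⟩ :=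
    X.isBasis_affineOpens.exists_subset_of_mem_open (Set.mem_univ x) isOpen_univ
  let R : CommRingCat.{u} := Γ(X, W)
  have hnR : IsUnit (n : R) := by
    simpa using hn.map (X.presheaf.map (homOfLE (le_top : W ≤ ⊤)).op).hom
  have hsep : (cyclotomic n R).Separable :=
    Separable.of_dvd (by simpa using separable_X_pow_sub_C_unit (1 : (R : Type u)ˣ) hnR)
      (cyclotomic.dvd_X_pow_sub_one n R)
  obtain ⟨a, b, hab⟩ := hsep
  let P : StandardEtalePair R :=
    { f := cyclotomic n R
      monic_f := cyclotomic.monic n R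
      g := 1
      cond := ⟨b, a, 0, by rw [pow_zero, ← hab]; ring⟩ }
  let φ : R ⟶ CommRingCat.of P.Ring := CommRingCat.ofHom (algebraMap R P.Ring)
  have : Etale (Spec.map φ) := by
    rw [HasRingHomProperty.Spec_iff (P := @Etale)]
    exact RingHom.etale_algebraMap.mpr inferInstance
  let ζ : Γ(Spec (CommRingCat.of P.Ring), ⊤) := (Scheme.ΓSpecIso (CommRingCat.of P.Ring)).inv.hom P.X
  refine ⟨Spec (CommRingCat.of P.Ring), Spec.map φ ≫ hW.fromSpec, inferInstance, ζ, ?_,
    by simpa using hn.map (Spec.map φ ≫ hW.fromSpec).appTop.hom, ?_⟩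
  · obtain ⟨p, hp⟩ := (hW.range_fromSpec ▸ hxW : x ∈ Set.range hW.fromSpec.base)
    let K := p.asIdeal.ResidueField
    let Ω := AlgebraicClosure K
    obtain ⟨z, hz⟩ := IsAlgClosed.exists_root (cyclotomic n Ω)
      (by simpa [degree_cyclotomic] using (Nat.totient_pos.mpr (NeZero.pos n)).ne')
    have hmap : P.HasMap (R := R) z := ⟨by
      rw [show P.f = cyclotomic n R from rfl, aeval_def, ← eval_map, map_cyclotomic]
      exact hz, by simp [P]⟩
    let ψ := P.lift z hmap
    refine ⟨⟨RingHom.ker ψ.toRingHom, RingHom.ker_isPrime _⟩, ?_⟩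
    rw [← hp]
    refine congrArg hW.fromSpec.base (PrimeSpectrum.ext ?_)
    ext r
    change ψ (algebraMap R P.Ring r) = 0 ↔ r ∈ p.asIdeal
    rw [ψ.commutes, IsScalarTower.algebraMap_apply R K Ω, map_eq_zero]
    exact Ideal.algebraMap_residueField_eq_zero
  · have h0 : aeval P.X (cyclotomic n R) = 0 := P.hasMap_X.1
    have h1 : aeval P.X (cyclotomic n ℤ) = 0 := by
      rw [aeval_def, ← eval_map, map_cyclotomic] at h0 ⊢
      exact h0
    show aeval ((Scheme.ΓSpecIso (CommRingCat.of P.Ring)).inv.hom P.X) (cyclotomic n ℤ) = 0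
    rw [show (Scheme.ΓSpecIso (CommRingCat.of P.Ring)).inv.hom P.X =
      ((Scheme.ΓSpecIso (CommRingCat.of P.Ring)).inv.hom.toIntAlgHom) P.X from rfl,
      aeval_algHom_apply, h1, map_zero]

/-- On an empty scheme all sheaves vanish. -/
theorem isZero_of_isEmpty [IsEmpty X] (F : EtCoh.Ab X) : IsZero F :=
  EtaleBC.isZero_of_forall_exists F fun x => isEmptyElim x

/-- Every point has an étale neighbourhood on which the Tate twists are constant. -/
theorem exists_tate_nhd (n : ℕ) (hn : IsUnit (n : Γ(X, ⊤))) (c : ℕ) (x : X) :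
    ∃ (X' : Scheme.{u}) (g : X' ⟶ X) (_ : Etale g) (_ : EtShriek.JCont g),
      x ∈ Set.range g.base ∧ Nonempty ((EtShriek.restrAlong g).obj (EtDual.tate X n c) ≅
        (EtShriek.restrAlong g).obj (EtCoh.const X (ZMod n))) := by
  rcases eq_or_ne n 0 with rfl | h0
  · exfalso
    rw [Nat.cast_zero, isUnit_zero_iff] at hn
    have : Subsingleton (X.residueField x) :=
      subsingleton_of_zero_eq_one (by simpa using congrArg (X.evaluation ⊤ x trivial).hom hn)
    exact false_of_nontrivial_of_subsingleton (X.residueField x)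
  · haveI : NeZero n := ⟨h0⟩
    obtain ⟨X', g, _, ζ, hx, hn', hζ⟩ := exists_cyclotomic_nhd n hn x
    obtain ⟨a⟩ := nonempty_restr_tate_iso g n c
    obtain ⟨b⟩ := nonempty_tate_iso_const n hn' ζ hζ c
    obtain ⟨d⟩ := nonempty_restr_const_iso g (ZMod n)
    exact ⟨X', g, inferInstance, inferInstance, hx, ⟨a ≪≫ b ≪≫ d.symm⟩⟩

/-- Vanishing of local cohomology passes from `ℤ/n` to its Tate twists. -/
theorem isZero_locCoh_tate {U : Scheme.{u}} (j : U ⟶ X) [IsOpenImmersion j] [EtCoh.BCCont j]
    (n : ℕ) (hn : IsUnit (n : Γ(X, ⊤))) (c p : ℕ)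
    (h : IsZero ((EtDual.locCoh j p).obj (EtCoh.const X (ZMod n)))) :
    IsZero ((EtDual.locCoh j p).obj (EtDual.tate X n c)) := by
  refine EtaleBC.isZero_of_forall_exists _ fun x => ?_
  obtain ⟨X', g, _, _, hx, ⟨e⟩⟩ := exists_tate_nhd n hn c x
  refine ⟨X', g, inferInstance, inferInstance, hx, ?_⟩
  let j' : (g ⁻¹ᵁ j.opensRange).toScheme ⟶ X' := (g ⁻¹ᵁ j.opensRange).ι
  have hr : Set.range j'.base = g.base ⁻¹' Set.range j.base := by
    exact Scheme.Opens.range_ι _
  obtain ⟨a⟩ := EtaleBC.nonempty_locCoh_restr_iso g j j' hr p (EtDual.tate X n c)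
  obtain ⟨b⟩ := EtaleBC.nonempty_locCoh_restr_iso g j j' hr p (EtCoh.const X (ZMod n))
  exact ((EtShriek.restrAlong g).map_isZero h).of_iso
    (a ≪≫ (EtDual.locCoh j' p).mapIso e ≪≫ b.symm)

end Groth.Agent.EtSupp.TateLoc
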