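import Groth.Agent.EtSupp.LocCoh
import Groth.Prelude.Def_EtDepth

/-!
# Shrinking the support
-/

universe u

open CategoryTheory CategoryTheory.Limits AlgebraicGeometry Opposite HomologicalComplex

namespace Groth.Agent.EtSupp

variable {U V X : Scheme.{u}} (j : U ⟶ X) [IsOpenImmersion j] (k : V ⟶ X) [IsOpenImmersion k]

omit [IsOpenImmersion j] in
/-- If `range j ⊆ range k`, a map killed by `k⁻¹` is killed by `j⁻¹`. -/
theorem pull_map_eq_zero (h : Set.range j.base ⊆ Set.range k.base) {F G : EtCoh.Ab X} (a : F ⟶ G)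
    (ha : (EtCoh.pull k).map a = 0) : (EtCoh.pull j).map a = 0 := by
  refine EtaleSite.hom_ext_of_stalk fun Ω _ _ ζ => ?_
  rcases exists_lift_or_notMem k (ζ ≫ j) with ⟨ξ, hξ⟩ | hout
  · have h1 : (EtCoh.stalk (ξ ≫ k)).map a = 0 := by
      rw [← NatIso.naturality_1 (EtaleSite.stalkPullIso k ξ) a]
      simp [ha]
    have h2 : (EtCoh.stalk (ζ ≫ j)).map a = 0 := by rw [hξ] at h1; exact h1
    rw [Functor.map_zero]
    show (EtCoh.pull j ⋙ EtCoh.stalk ζ).map a = 0
    rw [← NatIso.naturality_2 (EtaleSite.stalkPullIso j ζ) a, h2]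
    simp
  · exact absurd (h ⟨ζ.base default, rfl⟩) hout

variable [EtCoh.BCCont j] [EtCoh.BCCont k]

omit [IsOpenImmersion j] [IsOpenImmersion k] in
theorem comp_unitApp_eq_zero_iff {T F : EtCoh.Ab X} (a : T ⟶ F) :
    a ≫ EtDual.unitApp j F = 0 ↔ (EtCoh.pull j).map a = 0 := by
  have key : ((EtCoh.pullPushAdj j).homEquiv _ _).symm (a ≫ EtDual.unitApp j F) =
      (EtCoh.pull j).map a := by
    rw [Adjunction.homEquiv_naturality_left_symm, Adjunction.homEquiv_counit,
      Adjunction.left_triangle_components, Category.comp_id]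
  constructor
  · intro h
    rw [← key, h, Adjunction.homEquiv_counit, Functor.map_zero, zero_comp]
  · intro h
    apply ((EtCoh.pullPushAdj j).homEquiv _ _).symm.injective
    rw [key, h, Adjunction.homEquiv_counit, Functor.map_zero, zero_comp]

omit [IsOpenImmersion j] in
theorem suppι_comp_unit_eq_zero (h : Set.range j.base ⊆ Set.range k.base) (F : EtCoh.Ab X) :
    kernel.ι (EtDual.unitApp k F) ≫ EtDual.unitApp j F = 0 :=
  (comp_unitApp_eq_zero_iff j _).mpr
    (pull_map_eq_zero j k h _ ((comp_unitApp_eq_zero_iff k _).mp (kernel.condition _)))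

/-- `Γ_{X - V} = Γ_{X - V} ∘ Γ_{X - U}` for `U ⊆ V`. -/
noncomputable def secSuppMonoIso (h : Set.range j.base ⊆ Set.range k.base) :
    EtDual.secSupp j ⋙ EtDual.secSupp k ≅ EtDual.secSupp k :=
  NatIso.ofComponents (fun F =>
    { hom := (EtDual.secSupp k).map ((suppι j).app F)
      inv := kernel.lift _ (kernel.lift _ (kernel.ι _) (suppι_comp_unit_eq_zero j k h F)) (by
        rw [comp_unitApp_eq_zero_iff]
        have := (comp_unitApp_eq_zero_iff k _).mp (kernel.condition (EtDual.unitApp k F))
        rw [← kernel.lift_ι (EtDual.unitApp j F) (kernel.ι _) (suppι_comp_unit_eq_zero j k h F),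
          Functor.map_comp] at this
        have : Mono ((EtCoh.pull k).map (kernel.ι (EtDual.unitApp j F))) := inferInstance
        exact zero_of_comp_mono _ (by assumption))
      hom_inv_id := by
        rw [← cancel_mono (kernel.ι _), ← cancel_mono (kernel.ι _)]
        simp [suppι]
      inv_hom_id := by
        rw [← cancel_mono (kernel.ι _)]
        simp [suppι] })
    (fun a => ((EtDual.secSupp j ⋙ EtDual.secSupp k).map a ≫= rfl).trans (by
      show (EtDual.secSupp k).map _ ≫ (EtDual.secSupp k).map _ = (EtDual.secSupp k).map _ ≫ (EtDual.secSupp k).map _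
      rw [← Functor.map_comp, ← Functor.map_comp]
      exact congrArg _ ((suppι j).naturality a)))

/-- Depth is monotone in the closed subset. -/
theorem depthGE_mono (h : Set.range j.base ⊆ Set.range k.base) (F : EtCoh.Ab X) (n : ℕ)
    (hF : EtDepth.DepthGE j F n) : EtDepth.DepthGE k F n := by
  intro p hp
  let K := ((EtDual.secSupp j).mapHomologicalComplex _).obj (res F)
  have : ∀ i, Injective (K.X i) := fun i => injective_secSupp j _
  have hex : ∀ i < n, K.ExactAt i := fun i hi => (isZero_locCoh_iff j F i).mp (hF i hi)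
  rw [isZero_locCoh_iff]
  exact ((exactAt_iff_isZero_homology _ _).mpr <|
    IsZero.of_iso ((exactAt_iff_isZero_homology _ _).mp (DerFun.exactAt_map K hex (EtDual.secSupp k) p hp))
      ((HomologicalComplex.homologyFunctor _ _ p).mapIso
        (((NatIso.mapHomologicalComplex (secSuppMonoIso j k h) _).app (res F)).symm)))

end Groth.Agent.EtSupp
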