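import Groth.Agent.EtSupp.LocCoh
import Groth.Agent.EtSupp.ExtZero
import Groth.Agent.EtaleSite.Points

/-!
# Sections with support and restriction along an étale morphism
-/

universe u

open CategoryTheory CategoryTheory.Limits AlgebraicGeometry Opposite

namespace Groth.Agent.EtSupp.EtaleBC

section Zero

variable {U X : Scheme.{u}} (j : U ⟶ X) [IsOpenImmersion j] [EtCoh.BCCont j]

omit [EtCoh.BCCont j] in
theorem range_compEtale_subset (W : U.Etale) :
    Set.range ((EtShriek.compEtale j).obj W).hom.base ⊆ Set.range j.base := by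
  rintro _ ⟨v, rfl⟩
  exact ⟨W.hom.base v, rfl⟩

/-- A section dies in `j_* j⁻¹` iff it dies on every étale scheme over it that lies over `U`. -/
theorem unitApp_eq_zero_iff (F : EtCoh.Ab X) (V : X.Etale) (s : F.obj.obj (op V)) :
    (EtDual.unitApp j F).hom.app (op V) s = 0 ↔
      ∀ (V' : X.Etale) (f : V' ⟶ V), Set.range V'.hom.base ⊆ Set.range j.base →
        F.obj.map f.op s = 0 := by
  let i := (EtCoh.push j).map ((EtaleSite.pullIsoRestrAlong j).hom.app F)
  have hu : EtDual.unitApp j F ≫ i = (EtaleSite.restrAlongPushAdj j).unit.app F :=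
    Adjunction.unit_leftAdjointUniq_hom_app _ _ F
  have h1 : (EtDual.unitApp j F).hom.app (op V) s = 0 ↔
      F.obj.map ((EtaleSite.compEtaleBcAdj j).counit.app V).op s = 0 := by
    have he : i.hom.app (op V) ((EtDual.unitApp j F).hom.app (op V) s) =
        ((EtaleSite.restrAlongPushAdj j).unit.app F).hom.app (op V) s :=
      congrArg (fun φ => φ.hom.app (op V) s) hu
    have : IsIso (i.hom.app (op V)) := by
      have : IsIso ((sheafToPresheaf _ _).map i) := inferInstance
      exact NatIso.isIso_app_of_isIso ((sheafToPresheaf X.smallEtaleTopology AddCommGrpCat.{u + 1}).map i) _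
    rw [show F.obj.map ((EtaleSite.compEtaleBcAdj j).counit.app V).op s = _ from he.symm]
    refine ⟨fun h => by rw [h]; exact map_zero _, fun h => ?_⟩
    exact (ConcreteCategory.bijective_of_isIso (i.hom.app (op V))).1 (h.trans (map_zero _).symm)
  rw [h1]
  refine ⟨fun h V' f hV => ?_, fun h => h _ _ (range_compEtale_subset j _)⟩
  let φ : ExtZero.Lifts j V' := ⟨IsOpenImmersion.lift j V'.hom hV, IsOpenImmersion.lift_fac _ _ _⟩
  let e := ExtZero.liftIso j φ
  obtain ⟨g, hg⟩ : ∃ g, e.hom ≫ f =
      (EtShriek.compEtale j).map g ≫ (EtaleSite.compEtaleBcAdj j).counit.app V :=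
    ⟨(EtaleSite.compEtaleBcAdj j).homEquiv _ _ (e.hom ≫ f),
      (((EtaleSite.compEtaleBcAdj j).homEquiv _ _).symm_apply_apply _).symm.trans
        (Adjunction.homEquiv_counit _ _ _ _)⟩
  have : F.obj.map e.hom.op (F.obj.map f.op s) = 0 := by
    rw [← ConcreteCategory.comp_apply, ← Functor.map_comp, ← op_comp, hg, op_comp,
      Functor.map_comp, ConcreteCategory.comp_apply, h, map_zero]
  exact (ConcreteCategory.bijective_of_isIso (F.obj.map e.hom.op)).1 (this.trans (map_zero _).symm)

end Zero

section Restr

variable {X' X U U' : Scheme.{u}} (g : X' ⟶ X) [Etale g] (j : U ⟶ X) [IsOpenImmersion j]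
  (j' : U' ⟶ X') [IsOpenImmersion j'] [EtCoh.BCCont j] [EtCoh.BCCont j'] [EtShriek.JCont g]

/-- Restriction along an étale morphism is exact. -/
instance preservesFiniteColimits_restrAlong : PreservesFiniteColimits (EtShriek.restrAlong g) :=
  have : PreservesColimitsOfSize.{0, 0} (EtShriek.restrAlong g) :=
    (EtaleSite.restrAlongPushAdj g).leftAdjoint_preservesColimits
  PreservesColimitsOfSize.preservesFiniteColimits _

instance preservesFiniteLimits_restrAlong : PreservesFiniteLimits (EtShriek.restrAlong g) :=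
  have : PreservesLimitsOfSize.{0, 0} (EtShriek.restrAlong g) :=
    (EtShriek.extZeroAdj g).rightAdjoint_preservesLimits
  PreservesLimitsOfSize.preservesFiniteLimits _

instance additive_restrAlong : (EtShriek.restrAlong g).Additive :=
  Functor.additive_of_preserves_binary_products _

instance preservesInjectiveObjects_restrAlong : (EtShriek.restrAlong g).PreservesInjectiveObjects :=
  ⟨fun {I} _ => have := ExtZero.injective_pull g I
    Injective.of_iso ((EtaleSite.pullIsoRestrAlong g).app I) this⟩

variable (hr : Set.range j'.base = g.base ⁻¹' Set.range j.base)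

include hr in
/-- The two units kill the same sections over étale schemes of `X'`. -/
theorem restr_unitApp_eq_zero_iff (F : EtCoh.Ab X) (W : X'.Etale)
    (s : ((EtShriek.restrAlong g).obj F).obj.obj (op W)) :
    ((EtShriek.restrAlong g).map (EtDual.unitApp j F)).hom.app (op W) s = 0 ↔
      (EtDual.unitApp j' ((EtShriek.restrAlong g).obj F)).hom.app (op W) s = 0 := by
  refine (unitApp_eq_zero_iff j F ((EtShriek.compEtale g).obj W) s).trans
    (Iff.trans ?_ (unitApp_eq_zero_iff j' _ W s).symm)
  constructor
  · intro h W' f hW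
    refine h ((EtShriek.compEtale g).obj W') ((EtShriek.compEtale g).map f) ?_
    rintro _ ⟨v, rfl⟩
    have := hr.le (hW ⟨v, rfl⟩)
    exact this
  · intro h V' f hV
    let W' := (EtShriek.compEtaleLift g f).1
    let e : (EtShriek.compEtale g).obj W' ≅ V' := (EtShriek.compEtaleLift g f).2
    obtain ⟨f', hf'⟩ : ∃ f' : W' ⟶ W, (EtShriek.compEtale g).map f' = e.hom ≫ f := by
      have : (e.hom ≫ f).left ≫ W.hom = W'.hom := by
        exact congrArg (· ≫ W.hom) (Category.id_comp f.left)
      exact ⟨MorphismProperty.Over.homMk (e.hom ≫ f).left this, MorphismProperty.Over.Hom.ext rfl⟩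
    have hW : Set.range W'.hom.base ⊆ Set.range j'.base := by
      rw [hr]
      rintro _ ⟨v, rfl⟩
      refine hV ⟨e.hom.left.base v, ?_⟩
      exact congrArg (fun (φ : W'.left ⟶ X) => φ.base v) (MorphismProperty.Over.w e.hom)
    have : F.obj.map e.hom.op (F.obj.map f.op s) = 0 := by
      rw [← ConcreteCategory.comp_apply, ← Functor.map_comp, ← op_comp, ← hf']
      exact h W' f' hW
    exact (ConcreteCategory.bijective_of_isIso (F.obj.map e.hom.op)).1 (this.trans (map_zero _).symm)

include hr in
theorem restr_comp_unit_eq_zero (F : EtCoh.Ab X) :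
    (EtShriek.restrAlong g).map (kernel.ι (EtDual.unitApp j F)) ≫
      EtDual.unitApp j' ((EtShriek.restrAlong g).obj F) = 0 := by
  ext W t
  refine (restr_unitApp_eq_zero_iff g j j' hr F W.unop _).mp ?_
  exact congrArg (fun φ => φ.hom.app (op ((EtShriek.compEtale g).obj W.unop)) t)
    (kernel.condition (EtDual.unitApp j F))

include hr in
theorem kernel_comp_restr_unit_eq_zero (F : EtCoh.Ab X) :
    kernel.ι (EtDual.unitApp j' ((EtShriek.restrAlong g).obj F)) ≫
      (EtShriek.restrAlong g).map (EtDual.unitApp j F) = 0 := by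
  ext W t
  refine (restr_unitApp_eq_zero_iff g j j' hr F W.unop _).mpr ?_
  exact congrArg (fun φ => φ.hom.app W t)
    (kernel.condition (EtDual.unitApp j' ((EtShriek.restrAlong g).obj F)))

/-- Sections with support commute with restriction along an étale morphism. -/
noncomputable def secSuppRestrIso :
    EtDual.secSupp j ⋙ EtShriek.restrAlong g ≅ EtShriek.restrAlong g ⋙ EtDual.secSupp j' :=
  NatIso.ofComponents (fun F =>
    { hom := kernel.lift _ ((EtShriek.restrAlong g).map (kernel.ι (EtDual.unitApp j F)))
        (restr_comp_unit_eq_zero g j j' hr F)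
      inv := kernel.lift _ (kernel.ι (EtDual.unitApp j' ((EtShriek.restrAlong g).obj F)))
        (kernel_comp_restr_unit_eq_zero g j j' hr F) ≫
          (PreservesKernel.iso (EtShriek.restrAlong g) (EtDual.unitApp j F)).inv
      hom_inv_id := by
        rw [← cancel_mono ((EtShriek.restrAlong g).map (kernel.ι (EtDual.unitApp j F)))]
        simp [PreservesKernel.iso_inv_ι]
      inv_hom_id := by
        rw [← cancel_mono (kernel.ι _)]
        simp [PreservesKernel.iso_inv_ι] })
    (fun {F G} a => by
      rw [← cancel_mono (kernel.ι _)]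
      simp [← Functor.map_comp])

include hr in
/-- Local cohomology sheaves commute with restriction along an étale morphism. -/
theorem nonempty_locCoh_restr_iso (p : ℕ) (F : EtCoh.Ab X) :
    Nonempty ((EtShriek.restrAlong g).obj ((EtDual.locCoh j p).obj F) ≅
      (EtDual.locCoh j' p).obj ((EtShriek.restrAlong g).obj F)) := by
  let P := injectiveResolution F
  exact ⟨(DerFun.rightDerivedPostIso (EtShriek.restrAlong g) (EtDual.secSupp j) p F).symm ≪≫
    P.isoRightDerivedObj _ p ≪≫
    (HomologicalComplex.homologyFunctor _ _ p).mapIso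
      ((NatIso.mapHomologicalComplex (secSuppRestrIso g j j' hr) _).app P.cocomplex) ≪≫
    (P.isoRightDerivedObj _ p).symm ≪≫
    DerFun.rightDerivedCompIso (EtShriek.restrAlong g) (EtDual.secSupp j') p F⟩

end Restr

section Detect

variable {X : Scheme.{u}}

/-- A sheaf vanishes if it vanishes on an étale neighbourhood of every point. -/
theorem isZero_of_forall_exists (F : EtCoh.Ab X)
    (h : ∀ x : X, ∃ (X' : Scheme.{u}) (g : X' ⟶ X) (_ : Etale g) (_ : EtShriek.JCont g),
      x ∈ Set.range g.base ∧ IsZero ((EtShriek.restrAlong g).obj F)) :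
    IsZero F := by
  rw [EtaleSite.isZero_iff_stalk]
  intro Ω _ _ ξ
  obtain ⟨X', g, _, _, ⟨x', hx'⟩, hF⟩ := h (ξ.base default)
  obtain ⟨φ, -⟩ := EtaleSite.exists_fiber_point ξ (MorphismProperty.Over.mk ⊤ g ‹Etale g›) x' hx'
  have hξ : φ.left ≫ g = ξ := Over.w φ
  rw [← hξ]
  exact ((EtCoh.stalk φ.left).map_isZero (hF.of_iso ((EtaleSite.pullIsoRestrAlong g).app F))).of_iso
    ((EtaleSite.stalkPullIso g φ.left).app F).symm

end Detect

end Groth.Agent.EtSupp.EtaleBC
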