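import Groth.Agent.EtSupp.EtaleBC
import Groth.Agent.EtSupp.Mono
import Groth.Prelude.Def_EtCore

/-!
# Local cohomology groups off a closed subset
-/

universe u

open CategoryTheory CategoryTheory.Limits AlgebraicGeometry Opposite HomologicalComplex

namespace Groth.Agent.EtSupp.OffClosed

/-- Global sections. -/
noncomputable abbrev gSec (X : Scheme.{u}) : EtCoh.Ab X ⥤ AddCommGrpCat.{u + 1} :=
  sheafToPresheaf X.smallEtaleTopology AddCommGrpCat.{u+1} ⋙
    (evaluation X.Etaleᵒᵖ AddCommGrpCat.{u+1}).obj (op (EtCoh.top X))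

variable {X X' U : Scheme.{u}} (j : U ⟶ X) [IsOpenImmersion j] (k : X' ⟶ X) [IsOpenImmersion k]
  (j' : U ⟶ X') [IsOpenImmersion j'] (hfac : j' ≫ k = j) [EtCoh.BCCont j] [EtCoh.BCCont k]
  [EtCoh.BCCont j']

/-- The base change of `top X` is `top X'`. -/
noncomputable def bcTopIso : (EtCoh.bc k).obj (EtCoh.top X) ≅ EtCoh.top X' :=
  have : PreservesLimitsOfSize.{0, 0} (EtCoh.bc k) :=
    (EtaleSite.compEtaleBcAdj k).rightAdjoint_preservesLimits
  ((EtCore.topIsTerminal X).isTerminalObj (EtCoh.bc k)).uniqueUpToIso (EtCore.topIsTerminal X')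

/-- Global sections of a direct image. -/
noncomputable def pushGSecIso : EtCoh.push k ⋙ gSec X ≅ gSec X' :=
  NatIso.ofComponents (fun F => F.obj.mapIso (bcTopIso k).symm.op)
    (fun a => (a.hom.naturality (bcTopIso k).symm.op.hom).symm)

include hfac in
theorem range_subset : Set.range j.base ⊆ Set.range k.base := by
  subst hfac
  rintro _ ⟨x, rfl⟩
  exact ⟨j'.base x, rfl⟩

include hfac in
theorem range_eq : Set.range j'.base = k.base ⁻¹' Set.range j.base := by
  subst hfac
  ext y
  refine ⟨fun ⟨x, hx⟩ => ⟨x, by rw [← hx]; rfl⟩, fun ⟨x, hx⟩ => ⟨x, k.isOpenEmbedding.injective hx⟩⟩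

include hfac in
/-- If `H^p_Z F` vanishes for `p ≤ m + 1`, then `H^m_Y(X, F) = H^m_V(X', F|X')`. -/
theorem nonempty_HY_iso (F : EtCoh.Ab X) (m : ℕ)
    (hZ : ∀ p, p ≤ m + 1 → IsZero ((EtDual.locCoh k p).obj F)) :
    Nonempty ((EtDual.HY j m).obj F ≅ (EtDual.HY j' m).obj ((EtShriek.restrAlong k).obj F)) := by
  let P := injectiveResolution F
  let C := ((EtDual.secSupp j).mapHomologicalComplex _).obj (res F)
  have : ∀ i, Injective (C.X i) := fun i => injective_secSupp j _
  let Φ := EtCoh.pull k ⋙ EtCoh.push k ⋙ gSec X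
  let T : ShortComplex (CochainComplex AddCommGrpCat.{u + 1} ℕ) :=
    ShortComplex.mk
      ((NatTrans.mapHomologicalComplex (Functor.whiskerRight (suppι k) (gSec X)) _).app C)
      ((NatTrans.mapHomologicalComplex
        (Functor.whiskerRight (EtCoh.pullPushAdj k).unit (gSec X)) _).app C)
      (by
        ext i : 1
        exact ((gSec X).map_comp _ _).symm.trans
          ((congrArg (gSec X).map (kernel.condition _)).trans ((gSec X).map_zero _ _)))
  have hT : T.ShortExact := by
    refine shortExact_of_degreewise_shortExact _ fun i => ?_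
    let S : ShortComplex (EtCoh.Ab X) :=
      ShortComplex.mk (kernel.ι (EtDual.unitApp k (C.X i))) _ (kernel.condition _)
    have hS : S.ShortExact :=
      { exact := ShortComplex.exact_of_f_is_kernel _ (kernelIsKernel _)
        mono_f := (equalizer.ι_mono : Mono (kernel.ι (EtDual.unitApp k (C.X i))))
        epi_g := epi_unitApp k _ }
    have : Injective S.X₁ := injective_secSupp k _
    exact ((hS.splittingOfInjective).map (gSec X)).shortExact
  -- the first term is exact up to `m + 1`
  have hzero : ∀ p, p ≤ m + 1 → IsZero (T.X₁.homology p) := by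
    intro p hp
    let K := ((EtDual.secSupp k).mapHomologicalComplex _).obj (res F)
    have : ∀ i, Injective (K.X i) := fun i => injective_secSupp k _
    have hex : ∀ i < m + 2, K.ExactAt i := fun i hi => (isZero_locCoh_iff k F i).mp (hZ i (by omega))
    refine IsZero.of_iso ((exactAt_iff_isZero_homology _ _).mp
      (DerFun.exactAt_map K hex (gSec X) p (by omega)))
      ((HomologicalComplex.homologyFunctor _ _ p).mapIso
        ((NatIso.mapHomologicalComplex
          (Functor.isoWhiskerRight (secSuppMonoIso j k (range_subset j k j' hfac)) (gSec X)) _).app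
            (res F)))
  have : Mono (homologyMap T.g m) :=
    (hT.homology_exact₂ m).mono_g ((hzero m (by omega)).eq_of_src _ _)
  have : Epi (homologyMap T.g m) :=
    (hT.homology_exact₃ m (m + 1) rfl).epi_f ((hzero (m + 1) le_rfl).eq_of_tgt _ _)
  have : IsIso (homologyMap T.g m) := isIso_of_mono_of_epi _
  let eΦ : EtDual.secSupp j ⋙ Φ ≅ EtShriek.restrAlong k ⋙ EtDual.secSupp j' ⋙ gSec X' :=
    Functor.isoWhiskerLeft (EtDual.secSupp j)
        (Functor.isoWhiskerRight (EtaleSite.pullIsoRestrAlong k) _ ≪≫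
          Functor.isoWhiskerLeft _ (pushGSecIso k)) ≪≫
      (Functor.associator _ _ _).symm ≪≫
      Functor.isoWhiskerRight (EtaleBC.secSuppRestrIso k j j' (range_eq j k j' hfac)) (gSec X') ≪≫
      Functor.associator _ _ _
  exact ⟨P.isoRightDerivedObj (EtDual.gammaSupp j) m ≪≫ @asIso _ _ _ _ (homologyMap T.g m) ‹_› ≪≫
    (HomologicalComplex.homologyFunctor _ _ m).mapIso
      ((NatIso.mapHomologicalComplex eΦ _).app P.cocomplex) ≪≫
    (P.isoRightDerivedObj (EtShriek.restrAlong k ⋙ EtDual.gammaSupp j') m).symm ≪≫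
    DerFun.rightDerivedCompIso (EtShriek.restrAlong k) (EtDual.gammaSupp j') m F⟩

end Groth.Agent.EtSupp.OffClosed
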