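import Groth.Agent.EtSupp.Basic
import Groth.Agent.DerFun.Basic
import Mathlib.Algebra.Homology.HomologicalComplexAbelian
import Mathlib.Algebra.Homology.HomologySequence

/-!
# Local cohomology sheaves of an open immersion
-/

universe u

open CategoryTheory CategoryTheory.Limits AlgebraicGeometry Opposite HomologicalComplex

namespace Groth.Agent.EtSupp

variable {U X : Scheme.{u}} (j : U ⟶ X)

instance preservesFiniteLimits_pullPush {U X : Scheme.{u}} (j : U ⟶ X) [EtCoh.BCCont j] :
    PreservesFiniteLimits (EtCoh.pull j ⋙ EtCoh.push j) :=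
  comp_preservesFiniteLimits _ _

/-- The inclusion of the sections with support. -/
noncomputable def suppι [EtCoh.BCCont j] : EtDual.secSupp j ⟶ 𝟭 (EtCoh.Ab X) where
  app F := kernel.ι _
  naturality _ _ _ := kernel.lift_ι _ _ _

variable [IsOpenImmersion j] [EtCoh.BCCont j]

instance preservesInjectiveObjects_secSupp : (EtDual.secSupp j).PreservesInjectiveObjects :=
  ⟨fun {I} _ => injective_secSupp j I⟩

/-- The chosen injective resolution of `F`. -/
noncomputable abbrev res (F : EtCoh.Ab X) : CochainComplex (EtCoh.Ab X) ℕ :=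
  (injectiveResolution F).cocomplex

/-- `0 → Γ_Y I → I → j_* j⁻¹ I → 0` for the injective resolution `I` of `F`. -/
noncomputable def resSES (F : EtCoh.Ab X) : ShortComplex (CochainComplex (EtCoh.Ab X) ℕ) :=
  ShortComplex.mk ((NatTrans.mapHomologicalComplex (suppι j) _).app (res F))
    ((NatTrans.mapHomologicalComplex (EtCoh.pullPushAdj j).unit _).app (res F))
    (by ext i : 1; exact kernel.condition _)

theorem resSES_shortExact (F : EtCoh.Ab X) : (resSES j F).ShortExact := by
  refine HomologicalComplex.shortExact_of_degreewise_shortExact _ fun i => ?_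
  have : Epi (EtDual.unitApp j ((res F).X i)) := epi_unitApp j _
  exact { exact := ShortComplex.exact_of_f_is_kernel _ (kernelIsKernel _)
          mono_f := (equalizer.ι_mono : Mono (kernel.ι (EtDual.unitApp j ((res F).X i))))
          epi_g := this }

omit [IsOpenImmersion j] in
theorem isZero_homology_res (F : EtCoh.Ab X) (p : ℕ) :
    IsZero ((resSES j F).X₂.homology (p + 1)) :=
  IsZero.of_iso ((exactAt_iff_isZero_homology _ _).mp ((injectiveResolution F).cocomplex_exactAt_succ p))
    ((HomologicalComplex.homologyFunctor _ _ (p + 1)).mapIso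
      (((Functor.mapHomologicalComplexIdIso (EtCoh.Ab X) (ComplexShape.up ℕ)).app (res F))))

/-- `R^p (j_* j⁻¹) F ≅ R^p j_* (j⁻¹ F)`. -/
noncomputable def rightDerivedPullPushIso (F : EtCoh.Ab X) (p : ℕ) :
    ((EtCoh.pull j ⋙ EtCoh.push j).rightDerived p).obj F ≅
      (EtCoh.Rpush j p).obj ((EtCoh.pull j).obj F) :=
  DerFun.rightDerivedCompIso (EtCoh.pull j) (EtCoh.push j) p F

/-- `R^p j_* (j⁻¹ F) ≅ H^{p+1}_Y F` for `p ≥ 1`. -/
noncomputable def RpushIsoLocCoh (F : EtCoh.Ab X) (p : ℕ) :
    (EtCoh.Rpush j (p + 1)).obj ((EtCoh.pull j).obj F) ≅ (EtDual.locCoh j (p + 2)).obj F :=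
  (rightDerivedPullPushIso j F (p + 1)).symm ≪≫
    (injectiveResolution F).isoRightDerivedObj (EtCoh.pull j ⋙ EtCoh.push j) (p + 1) ≪≫
    (resSES_shortExact j F).δIso (p + 1) (p + 2) rfl (isZero_homology_res j F p)
      (isZero_homology_res j F (p + 1)) ≪≫
    ((injectiveResolution F).isoRightDerivedObj (EtDual.secSupp j) (p + 2)).symm

set_option backward.isDefEq.respectTransparency false in
/-- Naturality of `toRightDerivedZero` in the functor. -/
theorem toRightDerivedZero_rightDerived {A B : Type*} [Category A] [Abelian A]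
    [HasInjectiveResolutions A] [Category B] [Abelian B] {Φ Φ' : A ⥤ B} [Φ.Additive] [Φ'.Additive]
    (α : Φ ⟶ Φ') (X : A) :
    Φ.toRightDerivedZero.app X ≫ (NatTrans.rightDerived α 0).app X =
      α.app X ≫ Φ'.toRightDerivedZero.app X := by
  rw [(injectiveResolution X).toRightDerivedZero_eq Φ, (injectiveResolution X).toRightDerivedZero_eq Φ',
    InjectiveResolution.rightDerived_app_eq α (injectiveResolution X) 0]
  simp only [Category.assoc, Iso.inv_hom_id_assoc]
  simp only [← Category.assoc]
  rw [cancel_mono]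
  simp only [Category.assoc, homologyFunctor_map, RDer.isoHomologyπ₀_hom_eq, homologyπ_naturality]
  rw [RDer.toRightDerivedZero'_cyclesMap_assoc]

/-- `H^1_Y F ≅ coker (F → j_* j⁻¹ F)`. -/
theorem nonempty_cokernel_iso_locCoh_one (F : EtCoh.Ab X) :
    Nonempty (cokernel (EtDual.unitApp j F) ≅ (EtDual.locCoh j 1).obj F) := by
  let P := injectiveResolution F
  let hS := resSES_shortExact j F
  let g := homologyMap (resSES j F).g 0
  have e1 : cokernel (EtDual.unitApp j F) ≅
      cokernel ((NatTrans.rightDerived (EtCoh.pullPushAdj j).unit 0).app F) :=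
    cokernel.mapIso _ _ (asIso ((𝟭 (EtCoh.Ab X)).toRightDerivedZero.app F))
      (asIso ((EtCoh.pull j ⋙ EtCoh.push j).toRightDerivedZero.app F))
      (toRightDerivedZero_rightDerived (EtCoh.pullPushAdj j).unit F).symm
  have e2 : cokernel ((NatTrans.rightDerived (EtCoh.pullPushAdj j).unit 0).app F) ≅ cokernel g :=
    cokernel.mapIso _ _ (P.isoRightDerivedObj (𝟭 _) 0)
      (P.isoRightDerivedObj (EtCoh.pull j ⋙ EtCoh.push j) 0) (by
        rw [InjectiveResolution.rightDerived_app_eq _ P 0]
        simp only [Category.assoc]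
        erw [Iso.inv_hom_id, Category.comp_id]
        rfl)
  have : Epi (hS.δ 0 1 rfl) := hS.epi_δ 0 1 rfl (isZero_homology_res j F 0)
  have e3 : cokernel g ≅ (resSES j F).X₁.homology 1 :=
    (colimit.isColimit _).coconePointUniqueUpToIso
      (ShortComplex.Exact.gIsCokernel (hS.homology_exact₃ 0 1 rfl))
  exact ⟨e1 ≪≫ e2 ≪≫ e3 ≪≫ (P.isoRightDerivedObj (EtDual.secSupp j) 1).symm⟩

omit [IsOpenImmersion j] in
/-- Depth in terms of the complex of sections with support. -/
theorem isZero_locCoh_iff (F : EtCoh.Ab X) (p : ℕ) :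
    IsZero ((EtDual.locCoh j p).obj F) ↔
      (((EtDual.secSupp j).mapHomologicalComplex _).obj (res F)).ExactAt p := by
  rw [exactAt_iff_isZero_homology]
  exact ((injectiveResolution F).isoRightDerivedObj (EtDual.secSupp j) p).isZero_iff

theorem isZero_locCoh_of_injective (I : EtCoh.Ab X) [Injective I] (p : ℕ) (hp : 0 < p) :
    IsZero ((EtDual.locCoh j p).obj I) := by
  obtain ⟨q, rfl⟩ : ∃ q, p = q + 1 := ⟨p - 1, by omega⟩
  exact (EtDual.secSupp j).isZero_rightDerived_obj_injective_succ q I

end Groth.Agent.EtSupp
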